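import Cfsg.Agent.FixedCharEven.RealClass
import Mathlib.GroupTheory.Sylow

/-!
# Restriction to the centraliser of a 2-subgroup modulo that subgroup

`quotCtr D z` has at `q` the sum of the coefficients of `z` over the elements of `C(D)` above `q`.
Modulo two this is multiplicative.
-/

set_option autoImplicit false
set_option linter.unusedSectionVars false
set_option linter.style.haveILetI false

namespace CfsgLib.FixedCharEven

open CfsgLib.Blocks

universe u

variable {G : Type u} [Group G] [Finite G] {k : ℕ}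

/-- A subgroup inside its centraliser is normal there. -/
instance normal_subgroupOf_centralizer (D : Subgroup G) :
    (D.subgroupOf (Subgroup.centralizer (D : Set G))).Normal := by
  constructor
  intro n hn g
  rw [Subgroup.mem_subgroupOf] at hn ⊢
  simp only [Subgroup.coe_mul, InvMemClass.coe_inv]
  rwa [← Subgroup.mem_centralizer_iff.1 g.2 _ hn, mul_inv_cancel_right]

/-- The centraliser modulo the subgroup. -/
abbrev CentQuot (D : Subgroup G) : Type u :=
  ↥(Subgroup.centralizer (D : Set G)) ⧸ D.subgroupOf (Subgroup.centralizer (D : Set G))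

variable {F : Type*} [CommRing F]

open Classical in
/-- The fibre sums of the coefficients. -/
noncomputable def quotFun (D : Subgroup G) (z : Ctr F G) (q : CentQuot D) : F :=
  haveI := Fintype.ofFinite ↥(Subgroup.centralizer (D : Set G))
  ∑ h : ↥(Subgroup.centralizer (D : Set G)),
    if (h : CentQuot D) = q then (z : MonoidAlgebra F G).coeff (h : G) else 0

open Classical in
theorem quotFun_eq (D : Subgroup G) [Fintype ↥(Subgroup.centralizer (D : Set G))] (z : Ctr F G)
    (q : CentQuot D) : quotFun D z q = ∑ h : ↥(Subgroup.centralizer (D : Set G)),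
      if (h : CentQuot D) = q then (z : MonoidAlgebra F G).coeff (h : G) else 0 := by
  rw [quotFun]
  congr 1
  exact congrArg (fun i => @Finset.univ _ i) (Subsingleton.elim _ _)

theorem quotFun_conj (D : Subgroup G) (z : Ctr F G) (q c : CentQuot D) :
    quotFun D z (c * q * c⁻¹) = quotFun D z q := by
  classical
  haveI := Fintype.ofFinite ↥(Subgroup.centralizer (D : Set G))
  obtain ⟨x, rfl⟩ := QuotientGroup.mk_surjective c
  rw [quotFun_eq, quotFun_eq]
  refine Fintype.sum_equiv (MulAut.conj x⁻¹).toEquiv _ _ fun h => ?_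
  show _ = if ((x⁻¹ * h * x⁻¹⁻¹ : ↥(Subgroup.centralizer (D : Set G))) : CentQuot D) = q then _ else _
  refine if_congr ?_ ?_ rfl
  · rw [inv_inv, QuotientGroup.mk_mul, QuotientGroup.mk_mul, QuotientGroup.mk_inv]
    constructor
    · intro e; rw [e]; group
    · intro e; rw [← e]; group
  · exact (coeff_eq_of_isConj z.2 (isConj_iff.2 ⟨((x : G))⁻¹, by simp⟩))

/-- The image in the centre of the quotient. -/
noncomputable def quotCtr (D : Subgroup G) (z : Ctr F G) : Ctr F (CentQuot D) :=
  ⟨ofFun (quotFun D z), mem_ctr_iff.2 fun g h => by simp [quotFun_conj]⟩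

theorem coeff_quotCtr (D : Subgroup G) (z : Ctr F G) (q : CentQuot D) :
    (quotCtr D z : MonoidAlgebra F (CentQuot D)).coeff q = quotFun D z q := by
  simp [quotCtr]

theorem twistCtr_quotCtr (hk : IsTwist k G) (D : Subgroup G) (z : Ctr F G) :
    twistCtr k (quotCtr D z) = quotCtr D (twistCtr k z) := by
  classical
  haveI := Fintype.ofFinite ↥(Subgroup.centralizer (D : Set G))
  refine ctr_ext fun q => ?_
  rw [coeff_twistCtr, coeff_quotCtr, coeff_quotCtr, quotFun_eq, quotFun_eq]
  have hH := hk.subgroup (Subgroup.centralizer (D : Set G))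
  have hQ := hH.quotient (D.subgroupOf (Subgroup.centralizer (D : Set G)))
  refine Fintype.sum_equiv (hH.involutive.toPerm _) _ _ fun h => ?_
  show _ = if ((h ^ k : ↥(Subgroup.centralizer (D : Set G))) : CentQuot D) = q then _ else _
  rw [coeff_twistCtr, show (((hH.involutive.toPerm _) h : ↥(Subgroup.centralizer (D : Set G))) : G) = (h : G) ^ k from Subgroup.coe_pow _ h k, hk.sq, QuotientGroup.mk_pow]
  exact if_congr ⟨fun e => by rw [e, hQ.sq], fun e => by rw [← e, hQ.sq]⟩ rfl rfl

open Classical in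
theorem quotCtr_mul (h2 : (2 : F) = 0) {D : Subgroup G} (hD : IsPGroup 2 D) (z z' : Ctr F G) :
    quotCtr D (z * z') = quotCtr D z * quotCtr D z' := by
  haveI : Fact (Nat.Prime 2) := ⟨Nat.prime_two⟩
  haveI := Fintype.ofFinite G
  haveI := Fintype.ofFinite ↥(Subgroup.centralizer (D : Set G))
  haveI := Fintype.ofFinite (CentQuot D)
  refine ctr_ext fun q => ?_
  rw [coeff_quotCtr, quotFun_eq, Subring.coe_mul, Subring.coe_mul, coeff_mul_eq_sum]
  letI : MulAction D G :=
    { smul := fun r g => (r : G) * g * (r : G)⁻¹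
      one_smul := fun g => show (1 : G) * g * (1 : G)⁻¹ = g by simp
      mul_smul := fun r s g => show ((r : G) * s) * g * ((r : G) * s)⁻¹ =
        (r : G) * ((s : G) * g * (s : G)⁻¹) * (r : G)⁻¹ by group }
  have hred : ∀ h : ↥(Subgroup.centralizer (D : Set G)),
      ∑ a : G, (z : MonoidAlgebra F G).coeff a * (z' : MonoidAlgebra F G).coeff (a⁻¹ * (h : G)) =
      ∑ a : ↥(Subgroup.centralizer (D : Set G)),
        (z : MonoidAlgebra F G).coeff (a : G) * (z' : MonoidAlgebra F G).coeff ((a : G)⁻¹ * (h : G)) := by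
    intro h
    rw [CfsgLib.BlockPairs.sum_eq_sum_fixed hD
      (fun x : F => by rw [two_nsmul, ← two_mul, h2, zero_mul])
      (fun a => (z : MonoidAlgebra F G).coeff a * (z' : MonoidAlgebra F G).coeff (a⁻¹ * (h : G)))]
    · refine Finset.sum_subtype _ (fun a => ?_) _
      simp only [Finset.mem_filter, Finset.mem_univ, true_and, Subgroup.mem_centralizer_iff]
      exact ⟨fun ha r hr => mul_inv_eq_iff_eq_mul.1 (ha ⟨r, hr⟩),
        fun ha r => mul_inv_eq_iff_eq_mul.2 (ha r r.2)⟩
    · intro r a
      show (z : MonoidAlgebra F G).coeff ((r : G) * a * (r : G)⁻¹) *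
        (z' : MonoidAlgebra F G).coeff (((r : G) * a * (r : G)⁻¹)⁻¹ * (h : G)) = _
      have hrh : (r : G) * (h : G) * (r : G)⁻¹ = h :=
        mul_inv_eq_iff_eq_mul.2 (Subgroup.mem_centralizer_iff.1 h.2 r r.2)
      have e : ((r : G) * a * (r : G)⁻¹)⁻¹ * (h : G) = (r : G) * (a⁻¹ * (h : G)) * (r : G)⁻¹ := by
        calc ((r : G) * a * (r : G)⁻¹)⁻¹ * (h : G)
            = ((r : G) * a * (r : G)⁻¹)⁻¹ * ((r : G) * (h : G) * (r : G)⁻¹) := by rw [hrh]
          _ = _ := by group
      rw [e, coeff_conj_of_mem_ctr z.2, coeff_conj_of_mem_ctr z'.2]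
  simp only [Subring.coe_mul, coeff_mul_eq_sum, hred, coeff_quotCtr, quotFun_eq, Finset.mul_sum,
    Finset.sum_mul, mul_ite, ite_mul, mul_zero, zero_mul, Finset.ite_sum_zero]
  rw [Finset.sum_comm]
  symm
  rw [Finset.sum_comm]
  refine Eq.trans (Finset.sum_congr rfl fun b _ => Finset.sum_comm) ?_
  rw [Finset.sum_comm]
  refine Finset.sum_congr rfl fun a _ => ?_
  refine Fintype.sum_equiv (Equiv.mulLeft a) _ _ fun b => ?_
  rw [Finset.sum_eq_single (a : CentQuot D)]
  · simp only [Equiv.coe_mulLeft, Subgroup.coe_mul, inv_mul_cancel_left, QuotientGroup.mk_mul,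
      eq_inv_mul_iff_mul_eq]
    simp
  · intro x _ hx
    simp [Ne.symm hx]
  · simp

end CfsgLib.FixedCharEven
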