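import Mathlib.LinearAlgebra.Matrix.Charpoly.Basic
import Mathlib.LinearAlgebra.Matrix.Charpoly.Coeff
import Mathlib.LinearAlgebra.Matrix.ToLin
import Mathlib.LinearAlgebra.FiniteDimensional.Basic
import Mathlib.LinearAlgebra.InvariantBasisNumber
import Mathlib.Tactic

/-!
# Matrices commuting with a pairing, reduced modulo two

`W` intertwines `P` with a diagonal matrix and respects involutions `θ` of the columns and `σ` of the
rows.  If the diagonal entries at the fixed rows vanish in `k` (characteristic two), then the
`θ`-fixed part of `P` is nilpotent over `k`.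
-/

set_option autoImplicit false
set_option linter.unusedSectionVars false

namespace CfsgLib.FixedCharEven

open Matrix Polynomial
open scoped BigOperators

section Split

variable {I : Type*} [Fintype I] [DecidableEq I]

/-- A fixed enumeration, used to choose one point of each pair. -/
noncomputable def num (i : I) : ℕ := (Fintype.equivFin I i : ℕ)

theorem num_injective : Function.Injective (num (I := I)) := fun _ _ h =>
  (Fintype.equivFin I).injective (Fin.ext h)

variable (θ : I → I)

/-- The fixed points. -/
abbrev Fxd : Type _ := {i : I // θ i = i}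

/-- One representative of each pair. -/
abbrev Rep : Type _ := {i : I // num i < num (θ i)}

/-- The index set of the orbits. -/
abbrev Orb : Type _ := Fxd θ ⊕ Rep θ

/-- The representative of an orbit. -/
def orbPt : Orb θ → I
  | .inl a => a.1
  | .inr a => a.1

variable {θ}

theorem not_rep_of_fxd {i : I} (h : θ i = i) : ¬ num i < num (θ i) := by rw [h]; exact lt_irrefl _

theorem sum_split (hθ : Function.Involutive θ) {M : Type*} [AddCommMonoid M] (f : I → M) :
    ∑ i, f i = ∑ a : Fxd θ, f a + ∑ a : Rep θ, (f a + f (θ a)) := by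
  classical
  rw [← Finset.sum_filter_add_sum_filter_not Finset.univ (fun i => θ i = i) f,
    Finset.sum_subtype (p := fun i => θ i = i) _ (fun i => by simp) f, Finset.sum_add_distrib,
    ← Finset.sum_filter_add_sum_filter_not (Finset.univ.filter fun i => ¬ θ i = i)
      (fun i => num i < num (θ i)) f]
  congr 1
  rw [Finset.filter_filter, Finset.filter_filter]
  congr 1
  · refine (Finset.sum_subtype (p := fun i => num i < num (θ i)) _ (fun i => ?_) f)
    simp only [Finset.mem_filter, Finset.mem_univ, true_and]
    exact ⟨And.right, fun h => ⟨fun e => not_rep_of_fxd e h, h⟩⟩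
  · rw [← Finset.sum_subtype (p := fun i => num i < num (θ i))
      (Finset.univ.filter fun i => num i < num (θ i)) (fun i => by simp) fun i => f (θ i)]
    refine Finset.sum_nbij' θ θ ?_ ?_ (fun i _ => hθ i) (fun i _ => hθ i) ?_
    · intro i hi
      simp only [Finset.mem_filter, Finset.mem_univ, true_and] at hi ⊢
      rw [hθ i]
      exact lt_of_le_of_ne (not_lt.1 hi.2) fun e => hi.1 (num_injective e)
    · intro i hi
      simp only [Finset.mem_filter, Finset.mem_univ, true_and] at hi ⊢
      rw [hθ i]
      exact ⟨fun e => not_rep_of_fxd e.symm hi, not_lt.2 hi.le⟩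
    · intro i _
      rw [hθ i]

theorem card_split (hθ : Function.Involutive θ) :
    Fintype.card I = Fintype.card (Fxd θ) + 2 * Fintype.card (Rep θ) := by
  have h := sum_split hθ (fun _ => (1 : ℕ))
  simp only [Finset.sum_const, Finset.card_univ, smul_eq_mul, mul_one] at h
  omega

theorem trichotomy (hθ : Function.Involutive θ) (i : I) :
    θ i = i ∨ num i < num (θ i) ∨ (θ i ≠ i ∧ num (θ i) < num (θ (θ i))) := by
  by_cases h : θ i = i
  · exact Or.inl h
  · rcases lt_trichotomy (num i) (num (θ i)) with h' | h' | h'
    · exact Or.inr (Or.inl h')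
    · exact absurd (num_injective h').symm h
    · exact Or.inr (Or.inr ⟨h, by rwa [hθ i]⟩)

end Split

section Main

variable {O : Type*} [CommRing O] [IsDomain O]

/-- An injective intertwiner between square matrices preserves the characteristic polynomial. -/
theorem charpoly_eq_of_intertwine {n : Type*} [Fintype n] [DecidableEq n] (W P D : Matrix n n O)
    (hW : Function.Injective W.mulVec) (h : W * P = D * W) : P.charpoly = D.charpoly := by
  have hdet : W.det ≠ 0 := by
    intro h0
    obtain ⟨v, hv, hv0⟩ := Matrix.exists_mulVec_eq_zero_iff.2 h0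
    exact hv (hW (by rw [hv0, Matrix.mulVec_zero]))
  have hX : (W.map Polynomial.C) * P.charmatrix = D.charmatrix * W.map Polynomial.C := by
    rw [Matrix.charmatrix, Matrix.charmatrix, mul_sub, sub_mul,
      (Matrix.scalar_commute (X : O[X]) (fun r => Commute.all _ r) (W.map Polynomial.C)).eq]
    congr 1
    simp only [RingHom.mapMatrix_apply, ← Matrix.map_mul, h]
  have h1 := congrArg Matrix.det hX
  rw [Matrix.det_mul, Matrix.det_mul, mul_comm D.charmatrix.det] at h1
  refine mul_left_cancel₀ ?_ h1
  rw [← RingHom.mapMatrix_apply, ← RingHom.map_det]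
  simpa using hdet

/-- An injective rectangular matrix has at least as many rows as columns. -/
theorem card_le_of_mulVec_injective {m n : Type*} [Fintype m] [Fintype n] (W : Matrix m n O)
    (hW : Function.Injective W.mulVec) : Fintype.card n ≤ Fintype.card m := by
  have := LinearMap.finrank_le_finrank_of_injective (f := W.mulVecLin) hW
  simpa using this

variable {I X : Type*} [Fintype I] [Fintype X] [DecidableEq I] [DecidableEq X] {θ : I → I}
  {σ : X → X}

/-- The symmetrised columns. -/
def plusCol {m : Type*} (A : Matrix m I O) : Matrix m (Orb θ) O := Matrix.of fun x b =>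
  match b with
  | .inl a => A x a.1
  | .inr a => A x a.1 + A x (θ a.1)

/-- The antisymmetrised columns. -/
def minusCol {m : Type*} (A : Matrix m I O) : Matrix m (Rep θ) O := Matrix.of fun x a =>
  A x a.1 - A x (θ a.1)

theorem nilp_fixed {k : Type*} [CommRing k] [IsDomain k] (φ : O →+* k) (h2 : (2 : k) = 0)
    (h2' : (2 : O) ≠ 0) (hθ : Function.Involutive θ) (hσ : Function.Involutive σ)
    (W : Matrix X I O) (P : Matrix I I O) (ω : X → O) (hcard : Fintype.card X = Fintype.card I)
    (hW : Function.Injective W.mulVec) (hWσ : ∀ x i, W (σ x) (θ i) = W x i)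
    (hPθ : ∀ i j, P (θ i) (θ j) = P i j) (hWP : ∀ x j, ∑ i, W x i * P i j = ω x * W x j)
    (hfix : ∀ x, σ x = x → φ (ω x) = 0)
    (v : I → k) (hv : ∀ i, v (θ i) = v i) :
    ∀ n, Fintype.card I ≤ n → ∀ i, θ i = i → ((P.map φ) ^ n).mulVec v i = 0 := by
  classical
  have hPθ' : ∀ i j, P (θ i) j = P i (θ j) := fun i j => by rw [← hPθ i (θ j), hθ j]
  -- the two reduced intertwining relations
  set Pp : Matrix (Orb θ) (Orb θ) O := Matrix.of fun a b => plusCol P (orbPt θ a) b with hPp
  set Pm : Matrix (Rep θ) (Rep θ) O := Matrix.of fun a b => minusCol P a.1 b with hPm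
  have hcolp : ∀ i b, (plusCol (θ := θ) P) (θ i) b = plusCol P i b := by
    rintro i (a | a)
    · show P (θ i) a.1 = P i a.1
      rw [hPθ', a.2]
    · show P (θ i) a.1 + P (θ i) (θ a.1) = P i a.1 + P i (θ a.1)
      rw [hPθ', hPθ', hθ a.1, add_comm]
  have hcolm : ∀ i b, (minusCol (θ := θ) P) (θ i) b = - minusCol P i b := by
    intro i a
    show P (θ i) a.1 - P (θ i) (θ a.1) = -(P i a.1 - P i (θ a.1))
    rw [hPθ', hPθ', hθ a.1, neg_sub]
  have hcolm0 : ∀ i b, θ i = i → (minusCol (θ := θ) P) i b = 0 := by
    intro i a hi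
    show P i a.1 - P i (θ a.1) = 0
    rw [sub_eq_zero, ← hPθ' i a.1, hi]
  have hrelp : ∀ x b, ∑ a, plusCol W x a * Pp a b = ω x * plusCol W x b := by
    intro x b
    have h1 : ∑ i, W x i * plusCol P i b = ω x * plusCol (θ := θ) W x b := by
      rcases b with a | a
      · exact hWP x a.1
      · show ∑ i, W x i * (P i a.1 + P i (θ a.1)) = _
        simp only [mul_add, Finset.sum_add_distrib, hWP]
        exact (mul_add _ _ _).symm
    rw [← h1, sum_split hθ, Fintype.sum_sum_type]
    congr 1
    refine Finset.sum_congr rfl fun a _ => ?_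
    show (W x a.1 + W x (θ a.1)) * plusCol P a.1 b = _
    rw [hcolp, add_mul]
  have hrelm : ∀ x b, ∑ a, minusCol W x a * Pm a b = ω x * minusCol W x b := by
    intro x b
    have h1 : ∑ i, W x i * minusCol P i b = ω x * minusCol (θ := θ) W x b := by
      show ∑ i, W x i * (P i b.1 - P i (θ b.1)) = ω x * (W x b.1 - W x (θ b.1))
      simp only [mul_sub, Finset.sum_sub_distrib, hWP]
    rw [← h1, sum_split hθ, Finset.sum_eq_zero (s := (Finset.univ : Finset (Fxd θ)))
      (fun a _ => by rw [hcolm0 _ _ a.2, mul_zero]), zero_add]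
    refine Finset.sum_congr rfl fun a _ => ?_
    show (W x a.1 - W x (θ a.1)) * minusCol P a.1 b = _
    rw [hcolm]
    ring
  -- the two injective square intertwiners
  have hrow : ∀ (V : I → O) (c : O), (∀ i, V (θ i) = c * V i) →
      ∀ x, W.mulVec V (σ x) = c * W.mulVec V x := by
    intro V c hV x
    simp only [Matrix.mulVec, dotProduct, Finset.mul_sum]
    refine Fintype.sum_equiv (hθ.toPerm θ) _ _ fun i => ?_
    show W (σ x) i * V i = c * (W x (θ i) * V (θ i))
    rw [← hWσ x (θ i), hθ i]
    have h' := hV (θ i)
    rw [hθ i] at h'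
    rw [h']
    ring
  set Wp : Matrix (Orb σ) (Orb θ) O := Matrix.of fun x b => plusCol W (orbPt σ x) b with hWp
  set Wm : Matrix (Rep σ) (Rep θ) O := Matrix.of fun x b => minusCol W x.1 b with hWm
  have hWpinj : Function.Injective Wp.mulVec := by
    refine (injective_iff_map_eq_zero Wp.mulVecLin).2 fun u hu => ?_
    let V : I → O := fun i => if h : θ i = i then u (.inl ⟨i, h⟩)
      else if h' : num i < num (θ i) then u (.inr ⟨i, h'⟩)
      else u (.inr ⟨θ i, ((trichotomy hθ i).resolve_left h).resolve_left h' |>.2⟩)
    have hVF : ∀ a : Fxd θ, V a.1 = u (.inl a) := fun a => by simp [V, a.2]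
    have hVR : ∀ a : Rep θ, V a.1 = u (.inr a) := fun a => by
      have h : θ a.1 ≠ a.1 := fun e => not_rep_of_fxd e a.2
      simp [V, h, a.2]
    have hVinv : ∀ i, V (θ i) = 1 * V i := by
      intro i
      rw [one_mul]
      by_cases h : θ i = i
      · rw [h]
      · have h1 : θ (θ i) ≠ θ i := by rw [hθ i]; exact Ne.symm h
        rcases ((trichotomy hθ i).resolve_left h) with h' | ⟨-, h'⟩
        · have h'' : ¬ num (θ i) < num (θ (θ i)) := by rw [hθ i]; exact not_lt.2 h'.le
          simp only [V, dif_neg h, dif_neg h1, dif_pos h', dif_neg h'']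
          congr 2
          exact Subtype.ext (hθ i)
        · have h'' : ¬ num i < num (θ i) := by rw [hθ i] at h'; exact not_lt.2 h'.le
          simp only [V, dif_neg h, dif_neg h1, dif_pos h', dif_neg h'']
    have hV0 : W.mulVec V = 0 := by
      have key : ∀ x : Orb σ, W.mulVec V (orbPt σ x) = 0 := by
        intro x
        have hx := congrFun hu x
        simp only [Matrix.mulVecLin_apply, Matrix.mulVec, dotProduct, Pi.zero_apply] at hx
        rw [← hx]
        simp only [Matrix.mulVec, dotProduct]
        rw [sum_split hθ, Fintype.sum_sum_type]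
        congr 1
        · exact Finset.sum_congr rfl fun a _ => by rw [hVF]; rfl
        · refine Finset.sum_congr rfl fun a _ => ?_
          rw [hVinv a.1, one_mul, hVR, ← add_mul]
          rfl
      funext x
      rcases trichotomy hσ x with h | h | ⟨-, h⟩
      · exact key (.inl ⟨x, h⟩)
      · exact key (.inr ⟨x, h⟩)
      · have := key (.inr ⟨σ x, h⟩)
        change W.mulVec V (σ x) = 0 at this
        rwa [hrow V 1 hVinv x, one_mul] at this
    have hV : V = 0 := hW (by rw [hV0, Matrix.mulVec_zero])
    funext a
    rcases a with a | a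
    · rw [← hVF, hV]; rfl
    · rw [← hVR, hV]; rfl
  have hWminj : Function.Injective Wm.mulVec := by
    refine (injective_iff_map_eq_zero Wm.mulVecLin).2 fun u hu => ?_
    let V : I → O := fun i => if h : θ i = i then 0
      else if h' : num i < num (θ i) then u ⟨i, h'⟩
      else - u ⟨θ i, ((trichotomy hθ i).resolve_left h).resolve_left h' |>.2⟩
    have hVF : ∀ a : Fxd θ, V a.1 = 0 := fun a => by simp [V, a.2]
    have hVR : ∀ a : Rep θ, V a.1 = u a := fun a => by
      have h : θ a.1 ≠ a.1 := fun e => not_rep_of_fxd e a.2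
      simp [V, h, a.2]
    have hVinv : ∀ i, V (θ i) = (-1) * V i := by
      intro i
      rw [neg_one_mul]
      by_cases h : θ i = i
      · simp [V, h]
      · have h1 : θ (θ i) ≠ θ i := by rw [hθ i]; exact Ne.symm h
        rcases ((trichotomy hθ i).resolve_left h) with h' | ⟨-, h'⟩
        · have h'' : ¬ num (θ i) < num (θ (θ i)) := by rw [hθ i]; exact not_lt.2 h'.le
          simp only [V, dif_neg h, dif_neg h1, dif_pos h', dif_neg h'']
          congr 2
          exact Subtype.ext (hθ i)
        · have h'' : ¬ num i < num (θ i) := by rw [hθ i] at h'; exact not_lt.2 h'.le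
          simp only [V, dif_neg h, dif_neg h1, dif_pos h', dif_neg h'', neg_neg]
    have hV0 : W.mulVec V = 0 := by
      have key : ∀ x : Rep σ, W.mulVec V x.1 = 0 := by
        intro x
        have hx := congrFun hu x
        simp only [Matrix.mulVecLin_apply, Matrix.mulVec, dotProduct, Pi.zero_apply] at hx
        rw [← hx]
        simp only [Matrix.mulVec, dotProduct]
        rw [sum_split hθ, Finset.sum_eq_zero (s := (Finset.univ : Finset (Fxd θ)))
          (fun a _ => by rw [hVF, mul_zero]), zero_add]
        refine Finset.sum_congr rfl fun a _ => ?_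
        show W x.1 a.1 * V a.1 + W x.1 (θ a.1) * V (θ a.1) = (W x.1 a.1 - W x.1 (θ a.1)) * u a
        rw [hVinv a.1, hVR]
        ring
      funext x
      rcases trichotomy hσ x with h | h | ⟨-, h⟩
      · have h0 := hrow V (-1) hVinv x
        rw [h] at h0
        have : (2 : O) * W.mulVec V x = 0 := by linear_combination h0
        exact (mul_eq_zero.1 this).resolve_left h2'
      · exact key ⟨x, h⟩
      · have := key ⟨σ x, h⟩
        change W.mulVec V (σ x) = 0 at this
        rw [hrow V (-1) hVinv x, neg_one_mul, neg_eq_zero] at this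
        exact this
    have hV : V = 0 := hW (by rw [hV0, Matrix.mulVec_zero])
    funext a
    rw [← hVR, hV]
    rfl
  -- counting
  have c1 := card_le_of_mulVec_injective Wp hWpinj
  have c2 := card_le_of_mulVec_injective Wm hWminj
  have c3 := card_split hθ
  have c4 := card_split hσ
  rw [Fintype.card_sum, Fintype.card_sum] at c1
  let eF : Fxd θ ≃ Fxd σ := Fintype.equivOfCardEq (by omega)
  let eR : Rep θ ≃ Rep σ := Fintype.equivOfCardEq (by omega)
  let e : Orb θ ≃ Orb σ := eF.sumCongr eR
  -- characteristic polynomials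
  have hp : Pp.charpoly = (Matrix.diagonal fun a => ω (orbPt σ (e a))).charpoly := by
    refine charpoly_eq_of_intertwine (Wp.submatrix e id) _ _ ?_ ?_
    · intro u u' huu
      refine hWpinj (funext fun x => ?_)
      have := congrFun huu (e.symm x)
      simpa [Matrix.mulVec, dotProduct] using this
    · ext x b
      rw [Matrix.mul_apply, Matrix.diagonal_mul]
      exact hrelp _ b
  have hm : Pm.charpoly = (Matrix.diagonal fun a => ω (eR a).1).charpoly := by
    refine charpoly_eq_of_intertwine (Wm.submatrix eR id) _ _ ?_ ?_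
    · intro u u' huu
      refine hWminj (funext fun x => ?_)
      have := congrFun huu (eR.symm x)
      simpa [Matrix.mulVec, dotProduct] using this
    · ext x b
      rw [Matrix.mul_apply, Matrix.diagonal_mul]
      exact hrelm _ b
  set A : Matrix (Fxd θ) (Fxd θ) k := Matrix.of fun a b => φ (P a.1 b.1) with hA
  have hblock : Pp.map φ = Matrix.fromBlocks A 0
      (Matrix.of fun (a : Rep θ) (b : Fxd θ) => φ (P a.1 b.1)) (Pm.map φ) := by
    ext (a | a) (b | b)
    · rfl
    · show φ (P a.1 b.1 + P a.1 (θ b.1)) = 0
      rw [← hPθ' a.1 b.1, a.2, map_add, ← two_mul, h2, zero_mul]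
    · rfl
    · show φ (P a.1 b.1 + P a.1 (θ b.1)) = φ (P a.1 b.1 - P a.1 (θ b.1))
      rw [map_add, map_sub]
      linear_combination (φ (P a.1 (θ b.1))) * h2
  have hAchar : A.charpoly = Polynomial.X ^ Fintype.card (Fxd θ) := by
    have h1 := congrArg (Polynomial.map φ) hp
    rw [← Matrix.charpoly_map, hblock, Matrix.charpoly_fromBlocks_zero₁₂, Matrix.charpoly_map, hm,
      Matrix.charpoly_diagonal, Matrix.charpoly_diagonal, Fintype.prod_sum_type,
      Polynomial.map_mul, Polynomial.map_prod, Polynomial.map_prod] at h1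
    have hF : ∏ a : Fxd θ, Polynomial.map φ (Polynomial.X - Polynomial.C
        (ω (orbPt σ (e (.inl a))))) = Polynomial.X ^ Fintype.card (Fxd θ) := by
      rw [← Finset.card_univ, ← Finset.prod_const]
      refine Finset.prod_congr rfl fun a _ => ?_
      show Polynomial.map φ (Polynomial.X - Polynomial.C (ω (eF a).1)) = _
      simp [hfix _ (eF a).2]
    rw [hF] at h1
    simp only [Polynomial.map_prod] at h1
    refine mul_right_cancel₀ (b := ∏ a : Rep θ, Polynomial.map φ
      (Polynomial.X - Polynomial.C (ω (eR a).1))) ?_ (h1.trans rfl)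
    exact Finset.prod_ne_zero_iff.2 fun a _ => by
      simp only [Polynomial.map_sub, Polynomial.map_X, Polynomial.map_C]
      exact Polynomial.X_sub_C_ne_zero _
  have hA0 : A ^ Fintype.card (Fxd θ) = 0 := by
    have := Matrix.aeval_self_charpoly A
    rwa [hAchar, map_pow, Polynomial.aeval_X] at this
  -- the vector
  have hstep : ∀ n, (∀ i, ((P.map φ) ^ n).mulVec v (θ i) = ((P.map φ) ^ n).mulVec v i) ∧
      (fun a : Fxd θ => ((P.map φ) ^ n).mulVec v a.1) = (A ^ n).mulVec (fun a => v a.1) := by
    intro n
    induction n with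
    | zero => simp [hv]
    | succ n ih =>
      obtain ⟨ih1, ih2⟩ := ih
      set u := ((P.map φ) ^ n).mulVec v with hu
      have e1 : ((P.map φ) ^ (n + 1)).mulVec v = (P.map φ).mulVec u := by
        rw [pow_succ', ← Matrix.mulVec_mulVec]
      rw [e1]
      refine ⟨fun i => ?_, ?_⟩
      · simp only [Matrix.mulVec, dotProduct, Matrix.map_apply]
        refine Fintype.sum_equiv (hθ.toPerm θ) _ _ fun j => ?_
        show φ (P (θ i) j) * u j = φ (P i (θ j)) * u (θ j)
        rw [hPθ', ih1]
      · rw [pow_succ', ← Matrix.mulVec_mulVec, ← ih2]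
        funext a
        simp only [Matrix.mulVec, dotProduct, Matrix.map_apply]
        rw [sum_split hθ]
        refine (add_eq_left.2 (Finset.sum_eq_zero fun b _ => ?_)).trans rfl
        rw [ih1, ← hPθ' a.1 b.1, a.2]
        linear_combination (φ (P a.1 b.1) * u b.1) * h2
  intro n hn i hi
  have hle : Fintype.card (Fxd θ) ≤ n := le_trans (Fintype.card_subtype_le _) hn
  have := congrFun (hstep n).2 ⟨i, hi⟩
  have hAn : A ^ n = 0 := by rw [← Nat.sub_add_cancel hle, pow_add, hA0, mul_zero]
  rw [hAn, Matrix.zero_mulVec] at this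
  exact this

end Main

end CfsgLib.FixedCharEven
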