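import Cfsg.Agent.FixedCharEven.Nilpotent
import Cfsg.Agent.FixedCharEven.Brauer
import Cfsg.Prelude.Def_Blocks

/-!
# A twist-fixed character of even degree

If the 2-subgroups of `G` are abelian and `G` has a non-identity real element of odd order, then `G`
has an irreducible character of even degree fixed by the twist.
-/

set_option autoImplicit false
set_option linter.unusedSectionVars false
set_option linter.style.haveILetI false

namespace CfsgLib.FixedCharEven

open CfsgLib.Blocks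

universe u

variable {G : Type u} [Group G] [Finite G] {k : ℕ}

/-- All 2-subgroups are abelian. -/
def AbelianTwo (G : Type*) [Group G] : Prop :=
  ∀ R : Subgroup G, IsPGroup 2 R → ∀ a ∈ R, ∀ b ∈ R, Commute a b

theorem abelianTwo_of_sylow (P : Sylow 2 G) (hP : IsMulCommutative (P : Subgroup G)) :
    AbelianTwo G := by
  haveI : Fact (Nat.Prime 2) := ⟨Nat.prime_two⟩
  intro R hR a ha b hb
  obtain ⟨T, hT⟩ := hR.exists_le_sylow
  obtain ⟨c, rfl⟩ := MulAction.exists_smul_eq G P T
  have hmem : ∀ x ∈ R, c⁻¹ * x * c ∈ (P : Subgroup G) := fun x hx => by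
    have := hT hx
    rw [Sylow.coe_subgroup_smul, Subgroup.mem_pointwise_smul_iff_inv_smul_mem,
      ← map_inv, MulAut.smul_def, MulAut.conj_apply, inv_inv] at this
    exact this
  have h := congrArg Subtype.val (hP.is_comm.comm ⟨_, hmem a ha⟩ ⟨_, hmem b hb⟩)
  simp only [Subgroup.coe_mul] at h
  calc a * b = c * ((c⁻¹ * a * c) * (c⁻¹ * b * c)) * c⁻¹ := by group
    _ = c * ((c⁻¹ * b * c) * (c⁻¹ * a * c)) * c⁻¹ := by rw [h]
    _ = b * a := by group

theorem isPGroup_zpowers {v : G} (hv : ∃ j, orderOf v = 2 ^ j) :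
    IsPGroup 2 (Subgroup.zpowers v) := by
  obtain ⟨j, hj⟩ := hv
  exact IsPGroup.of_card (n := j) (by rw [Nat.card_zpowers, hj])

theorem AbelianTwo.commute_of_inverts (h : AbelianTwo G) {v g : G}
    (hv : ∃ j, orderOf v = 2 ^ j) (hg : ∃ j, orderOf g = 2 ^ j) (hgv : g * v * g⁻¹ = v⁻¹) :
    Commute g v := by
  haveI : Fact (Nat.Prime 2) := ⟨Nat.prime_two⟩
  have hnorm : Subgroup.zpowers g ≤ Subgroup.normalizer (Subgroup.zpowers v : Set G) := by
    rw [Subgroup.zpowers_le, Subgroup.mem_normalizer_iff]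
    intro x
    have e : ∀ i : ℤ, g * v ^ i * g⁻¹ = v ^ (-i) := fun i => by
      rw [← conj_zpow, hgv, inv_zpow']
    constructor
    · rintro ⟨i, rfl⟩
      exact ⟨-i, (e i).symm⟩
    · rintro ⟨i, hi⟩
      refine ⟨-i, ?_⟩
      dsimp only at hi ⊢
      have := e (-i)
      rw [neg_neg, hi] at this
      exact mul_left_cancel (mul_right_cancel this)
  exact h _ (IsPGroup.to_sup_of_normal_left' (isPGroup_zpowers hv) (isPGroup_zpowers hg) hnorm)
    g (Subgroup.mem_sup_right (Subgroup.mem_zpowers g)) v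
    (Subgroup.mem_sup_left (Subgroup.mem_zpowers v))

/-- A real element of odd order centralised by a 2-subgroup is inverted inside the centraliser of that
subgroup. -/
theorem AbelianTwo.exists_inverter (h : AbelianTwo G) {t : G} (ht : IsRealOdd t) {D : Subgroup G}
    (hD : IsPGroup 2 D) (hDt : ∀ d ∈ D, Commute d t) :
    ∃ w : G, w ∈ Subgroup.centralizer (D : Set G) ∧ w * t * w⁻¹ = t⁻¹ := by
  haveI : Fact (Nat.Prime 2) := ⟨Nat.prime_two⟩
  let Ns : Subgroup G :=
    { carrier := {x | x * t * x⁻¹ = t ∨ x * t * x⁻¹ = t⁻¹}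
      one_mem' := Or.inl (by simp)
      inv_mem' := fun {x} hx => by
        rcases hx with hx | hx
        · exact Or.inl (by nth_rw 1 [← hx]; group)
        · refine Or.inr ?_
          calc x⁻¹ * t * x⁻¹⁻¹ = x⁻¹ * (x * t * x⁻¹)⁻¹ * x := by rw [hx]; group
            _ = t⁻¹ := by group
      mul_mem' := fun {x y} hx hy => by
        have e : x * y * t * (x * y)⁻¹ = x * (y * t * y⁻¹) * x⁻¹ := by group
        rcases hx with hx | hx <;> rcases hy with hy | hy <;>
          simp only [Set.mem_setOf_eq, e, hy, ← conj_inv, hx, inv_inv] <;> simp }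
  have hNs : ∀ x, x ∈ Ns ↔ x * t * x⁻¹ = t ∨ x * t * x⁻¹ = t⁻¹ := fun _ => Iff.rfl
  have hDN : D ≤ Ns := fun d hd => Or.inl (mul_inv_eq_iff_eq_mul.2 (hDt d hd))
  obtain ⟨T, hT⟩ := (hD.comap_subtype (K := Ns)).exists_le_sylow
  by_cases hTC : ∀ x ∈ (T : Subgroup Ns), (x : G) * t * (x : G)⁻¹ = t
  · exfalso
    obtain ⟨g, hg2, hg⟩ := RealElements.exists_two_element_inverting ht.2.2
    have hgN : g ∈ Ns := Or.inr hg
    obtain ⟨T', hT'⟩ := (isPGroup_zpowers (G := Ns) (v := ⟨g, hgN⟩)
      (by simpa [Subgroup.orderOf_mk] using hg2)).exists_le_sylow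
    obtain ⟨c, rfl⟩ := MulAction.exists_smul_eq Ns T T'
    have hm := hT' (Subgroup.mem_zpowers (⟨g, hgN⟩ : Ns))
    rw [Sylow.coe_subgroup_smul, Subgroup.mem_pointwise_smul_iff_inv_smul_mem,
      ← map_inv, MulAut.smul_def, MulAut.conj_apply, inv_inv] at hm
    have h1 := hTC _ hm
    simp only [Subgroup.coe_mul, InvMemClass.coe_inv] at h1
    have hgt : g * t * g⁻¹ = t := by
      rcases (hNs (c : G)).1 c.2 with hc | hc
      · calc g * t * g⁻¹ = (c : G) * ((c : G)⁻¹ * g * c * ((c : G)⁻¹ * t * c) *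
              ((c : G)⁻¹ * g * c)⁻¹) * (c : G)⁻¹ := by group
          _ = t := by
            rw [show (c : G)⁻¹ * t * c = t by nth_rw 1 [← hc]; group, h1, hc]
      · calc g * t * g⁻¹ = (c : G) * ((c : G)⁻¹ * g * c * ((c : G)⁻¹ * t * c) *
              ((c : G)⁻¹ * g * c)⁻¹) * (c : G)⁻¹ := by group
          _ = t := by
            rw [show (c : G)⁻¹ * t * c = t⁻¹ by
              calc (c : G)⁻¹ * t * c = (c : G)⁻¹ * ((c : G) * t * (c : G)⁻¹)⁻¹ * c := by
                    rw [hc, inv_inv]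
                _ = t⁻¹ := by group,
              ← conj_inv, h1, ← conj_inv, hc, inv_inv]
    rw [hgt] at hg
    refine ht.1 (orderOf_eq_one_iff.1 (Nat.eq_one_of_dvd_coprimes
      (Nat.coprime_two_right.2 ht.2.1) dvd_rfl ?_))
    rw [orderOf_dvd_iff_pow_eq_one, sq]
    nth_rw 1 [hg]
    exact inv_mul_cancel t
  · simp only [not_forall] at hTC
    obtain ⟨x, hxT, hx⟩ := hTC
    refine ⟨x, Subgroup.mem_centralizer_iff.2 fun d hd => ?_,
      ((hNs (x : G)).1 x.2).resolve_left hx⟩
    exact (h ((T : Subgroup Ns).map Ns.subtype) (T.2.map _) d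
      (Subgroup.mem_map.2 ⟨⟨d, hDN hd⟩, hT (show (⟨d, hDN hd⟩ : Ns) ∈ D.subgroupOf Ns from hd), rfl⟩) x
      (Subgroup.mem_map.2 ⟨x, hxT, rfl⟩)).eq

/-- An element of odd order is determined by its coset modulo a central 2-element. -/
theorem eq_one_of_odd_mul {a b n : G} (ha : Odd (orderOf a)) (hb : Odd (orderOf b))
    (hn : ∃ j, orderOf n = 2 ^ j) (hc : Commute b n) (he : a = b * n) : n = 1 := by
  refine eq_one_of_two_power_of_odd hn ((ha.mul hb).of_dvd_nat ?_)
  rw [orderOf_dvd_iff_pow_eq_one]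
  have h1 : a ^ (orderOf a * orderOf b) = 1 := by rw [pow_mul, pow_orderOf_eq_one, one_pow]
  have h2 : b ^ (orderOf a * orderOf b) = 1 := by
    rw [mul_comm, pow_mul, pow_orderOf_eq_one, one_pow]
  rwa [he, hc.mul_pow, ← he, h2, one_mul] at h1

theorem isConj_twist_of_inverts (hk : IsTwist k G) {n t w : G} (hn : ∃ j, orderOf n = 2 ^ j)
    (ht : Odd (orderOf t)) (hnt : Commute n t) (hwn : Commute w n) (hw : w * t * w⁻¹ = t⁻¹) :
    IsConj ((n * t) ^ k) (n * t) := by
  refine (isConj_iff.2 ⟨w, ?_⟩ : IsConj (n * t) ((n * t) ^ k)).symm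
  rw [hk.pow_mul hnt hn ht]
  calc w * (n * t) * w⁻¹ = (w * n * w⁻¹) * (w * t * w⁻¹) := by group
    _ = n * t⁻¹ := by rw [hw, hwn.eq, mul_inv_cancel_right]

open Classical in
theorem exists_even_fixed [Fintype G] (hab : AbelianTwo G) (hk : IsTwist k G)
    {M : Ideal Cfsg.AlgInt} (hM : Cfsg.IsPModular 2 M) (hex : ∃ t : G, IsRealOdd t) :
    ∃ χ : Cfsg.IrrCharacter G, Even (Cfsg.charDegree (χ : G → ℂ)) ∧
      ∀ g : G, (χ : G → ℂ) (g ^ k) = (χ : G → ℂ) g := by
  haveI : Fact (Nat.Prime 2) := ⟨Nat.prime_two⟩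
  haveI := hM.2.1
  set φ : Cfsg.AlgInt →+* Cfsg.AlgInt ⧸ M := Ideal.Quotient.mk M with hφ
  have hφs : Function.Surjective φ := Ideal.Quotient.mk_surjective
  have h2 : (2 : Cfsg.AlgInt ⧸ M) = 0 := by
    rw [← map_ofNat φ 2]
    exact Ideal.Quotient.eq_zero_iff_mem.2 (by exact_mod_cast hM.2.2)
  by_contra hno
  simp only [not_exists, not_and] at hno
  -- the sum of the real elements of odd order
  let r : Ctr Cfsg.AlgInt G := ⟨ofFun fun g => realInd Cfsg.AlgInt g,
    mem_ctr_iff.2 fun g c => by simp [realInd_conj]⟩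
  have hrc : ∀ g, (r : MonoidAlgebra Cfsg.AlgInt G).coeff g = realInd Cfsg.AlgInt g :=
    fun g => by simp [r]
  have hr : twistCtr k r = r := ctr_ext fun g => by
    rw [coeff_twistCtr, hrc, hrc]
    unfold realInd
    exact if_congr (hk.isRealOdd_pow g) rfl rfl
  have hfix : ∀ χ : Cfsg.IrrCharacter G, twistChar hk χ = χ → φ (omegaA χ r) = 0 := by
    intro χ hχ
    refine omega_map_zero_of_odd φ h2 χ ?_ r fun g hg => ?_
    · rw [← Nat.not_even_iff_odd]
      exact fun he => hno χ he ((twistChar_eq_iff hk χ).1 hχ)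
    · rw [hrc] at hg
      have hgr : IsRealOdd g := by
        by_contra hcon
        exact hg (if_neg hcon)
      rw [← Nat.not_odd_iff_even]
      intro hodd
      refine hgr.1 (orderOf_eq_one_iff.1 (Nat.eq_one_of_dvd_coprimes
        (Nat.coprime_two_right.2 hgr.2.1) dvd_rfl ?_))
      rw [orderOf_dvd_iff_pow_eq_one]
      exact RealElements.sq_eq_one_of_odd_index hgr.2.2 hodd
  -- a real element with a centralised 2-subgroup of largest order
  obtain ⟨t₀, ht₀⟩ := hex
  let C := {p : G × Subgroup G // IsRealOdd p.1 ∧ IsPGroup 2 p.2 ∧ ∀ d ∈ p.2, Commute d p.1}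
  haveI : Nonempty C := ⟨⟨(t₀, ⊥), ht₀, IsPGroup.of_bot, fun d hd => by
    rw [Subgroup.mem_bot] at hd
    rw [hd]
    exact Commute.one_left _⟩⟩
  obtain ⟨⟨⟨s, D⟩, hs, hD, hDs⟩, hmax⟩ := Finite.exists_max (fun p : C => Nat.card p.1.2)
  simp only at hs hD hDs hmax
  have hmax' : ∀ (t : G) (E : Subgroup G), IsRealOdd t → D ≤ E → IsPGroup 2 E →
      (∀ d ∈ E, Commute d t) → E = D := fun t E ht hle hE hEt =>
    (Subgroup.eq_of_le_of_card_ge hle (hmax ⟨(t, E), ht, hE, hEt⟩)).symm
  obtain ⟨w, hwH, hw⟩ := hab.exists_inverter hs hD hDs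
  set H := Subgroup.centralizer (D : Set G) with hH
  set N := D.subgroupOf H with hN
  have hH' := hk.subgroup H
  have hQ : IsTwist k (CentQuot D) := hH'.quotient N
  have hNp : IsPGroup 2 N := hD.comap_subtype
  have hcomm : ∀ (n : H), n ∈ N → ∀ h : H, Commute (h : G) (n : G) := fun n hn h =>
    (Subgroup.mem_centralizer_iff.1 h.2 (n : G) (Subgroup.mem_subgroupOf.1 hn)).symm
  have htwoN : ∀ n : H, n ∈ N → ∃ j, orderOf (n : G) = 2 ^ j := fun n hn => by
    obtain ⟨j, hj⟩ := (IsPGroup.iff_orderOf.1 hD) ⟨(n : G), Subgroup.mem_subgroupOf.1 hn⟩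
    exact ⟨j, by rwa [Subgroup.orderOf_mk] at hj⟩
  have hdiv : ∀ a b : H, (a : CentQuot D) = b → ∃ n : H, n ∈ N ∧ (b : G) = a * n :=
    fun a b e => ⟨a⁻¹ * b, QuotientGroup.eq.1 e, by simp⟩
  -- odd lifts
  have hliftOdd : ∀ q : CentQuot D, Odd (orderOf q) →
      ∃ h : H, Odd (orderOf (h : G)) ∧ (h : CentQuot D) = q := by
    intro q hq
    obtain ⟨a, rfl⟩ := QuotientGroup.mk_surjective q
    obtain ⟨u, t, hut, -, hu, ht, hua, -⟩ := exists_decomp a
    refine ⟨t, by rwa [Subgroup.orderOf_coe], ?_⟩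
    have hu1 : (u : CentQuot D) = 1 := by
      refine eq_one_of_two_power_of_odd ?_ ?_
      · obtain ⟨j, hj⟩ := hu
        obtain ⟨i, -, hi⟩ := (Nat.dvd_prime_pow Nat.prime_two).1
          (show orderOf (u : CentQuot D) ∣ 2 ^ j from hj ▸ orderOf_map_dvd (QuotientGroup.mk' N) u)
        exact ⟨i, hi⟩
      · obtain ⟨i, rfl⟩ := hua
        exact hq.of_dvd_nat (show orderOf ((a : CentQuot D) ^ i) ∣ orderOf (a : CentQuot D) from
          orderOf_dvd_of_mem_zpowers (Subgroup.zpow_mem_zpowers _ i))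
    rw [← hut, QuotientGroup.mk_mul, hu1, one_mul]
  have hmk1 : ∀ h : H, Odd (orderOf (h : G)) → ((h : CentQuot D) = 1 ↔ (h : G) = 1) := by
    refine fun h hh => ⟨fun e => ?_, fun e => ?_⟩
    · exact eq_one_of_two_power_of_odd (htwoN h ((QuotientGroup.eq_one_iff h).1 e)) hh
    · rw [show h = 1 from Subtype.ext e]; rfl
  -- real elements of the quotient and real lifts
  have hrealUp : ∀ q : CentQuot D, IsRealOdd q → ∀ h : H, Odd (orderOf (h : G)) →
      (h : CentQuot D) = q → IsRealOdd (h : G) := by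
    intro q hq h hh he
    subst he
    refine ⟨fun e => hq.1 ((hmk1 h hh).2 e), hh, ?_⟩
    obtain ⟨c, hc⟩ := isConj_iff.1 hq.2.2
    obtain ⟨g, rfl⟩ := QuotientGroup.mk_surjective c
    rw [← QuotientGroup.mk_inv, ← QuotientGroup.mk_inv, ← QuotientGroup.mk_mul,
      ← QuotientGroup.mk_mul] at hc
    obtain ⟨n, hn, hne⟩ := hdiv _ _ hc.symm
    have hn1 : (n : G) = 1 := eq_one_of_odd_mul (a := (g : G) * h * (g : G)⁻¹)
      (by rwa [show (g : G) * h * (g : G)⁻¹ = MulAut.conj (g : G) (h : G) from rfl,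
        MulEquiv.orderOf_eq])
      (by rwa [InvMemClass.coe_inv, orderOf_inv]) (htwoN n hn) ((hcomm n hn h⁻¹)) (by simpa using hne)
    exact isConj_iff.2 ⟨g, by simpa [hn1] using hne⟩
  have hrealDown : ∀ h : H, IsRealOdd (h : G) → IsRealOdd (h : CentQuot D) := by
    intro h hh
    refine ⟨fun e => hh.1 ((hmk1 h hh.2.1).1 e), ?_, ?_⟩
    · refine Odd.of_dvd_nat hh.2.1 ?_
      rw [Subgroup.orderOf_coe]
      exact orderOf_map_dvd (QuotientGroup.mk' N) h
    · obtain ⟨c, hcH, hc⟩ := hab.exists_inverter hh hD fun d hd =>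
        Subgroup.mem_centralizer_iff.1 h.2 d hd
      refine isConj_iff.2 ⟨((⟨c, hcH⟩ : H) : CentQuot D), ?_⟩
      rw [← QuotientGroup.mk_inv, ← QuotientGroup.mk_inv, ← QuotientGroup.mk_mul,
        ← QuotientGroup.mk_mul]
      exact congrArg _ (Subtype.ext (by simpa using hc))
  -- the hypotheses of the squaring lemma
  have habQ : AbelianTwo (CentQuot D) := by
    intro R hR a ha b hb
    obtain ⟨x, rfl⟩ := QuotientGroup.mk_surjective a
    obtain ⟨y, rfl⟩ := QuotientGroup.mk_surjective b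
    have hR' : IsPGroup 2 (R.comap (QuotientGroup.mk' N)) :=
      hR.comap_of_ker_isPGroup _ (by rwa [QuotientGroup.ker_mk'])
    have h := hab _ (hR'.map H.subtype) x (Subgroup.mem_map_of_mem _ ha) y
      (Subgroup.mem_map_of_mem _ hb)
    show (x : CentQuot D) * y = y * x
    rw [← QuotientGroup.mk_mul, ← QuotientGroup.mk_mul]
    exact congrArg _ (Subtype.ext h.eq)
  have hsolo : ∀ q v : CentQuot D, IsRealOdd q → (∃ j, orderOf v = 2 ^ j) → Commute v q →
      v = 1 := by
    intro q v hq hv hvq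
    obtain ⟨h, hh, rfl⟩ := hliftOdd q hq.2.1
    have hR := hrealUp _ hq h hh rfl
    obtain ⟨x, rfl⟩ := QuotientGroup.mk_surjective v
    have hR' : IsPGroup 2 ((Subgroup.zpowers (x : CentQuot D)).comap (QuotientGroup.mk' N)) :=
      (isPGroup_zpowers hv).comap_of_ker_isPGroup _ (by rwa [QuotientGroup.ker_mk'])
    set E := ((Subgroup.zpowers (x : CentQuot D)).comap (QuotientGroup.mk' N)).map H.subtype
    have hDH : D ≤ H := fun d hd => Subgroup.mem_centralizer_iff.2 fun e he =>
      hab D hD e he d hd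
    have hED : E = D := by
      refine hmax' (h : G) E hR (fun d hd => Subgroup.mem_map.2 ⟨⟨d, hDH hd⟩, ?_, rfl⟩)
        (hR'.map _) ?_
      · rw [Subgroup.mem_comap, QuotientGroup.mk'_apply,
          (QuotientGroup.eq_one_iff _).2 (show (⟨d, hDH hd⟩ : H) ∈ N from hd)]
        exact one_mem _
      · rintro d ⟨e, he, rfl⟩
        obtain ⟨i, hi⟩ := he
        have hc : ((e * h * e⁻¹ : H) : CentQuot D) = (h : CentQuot D) := by
          rw [QuotientGroup.mk_mul, QuotientGroup.mk_mul, QuotientGroup.mk_inv,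
            show (e : CentQuot D) = (x : CentQuot D) ^ i from hi.symm]
          exact mul_inv_eq_iff_eq_mul.2 (hvq.zpow_left i).eq
        obtain ⟨n, hn, hne⟩ := hdiv _ _ hc.symm
        have hn1 : (n : G) = 1 := eq_one_of_odd_mul (a := (e : G) * h * (e : G)⁻¹)
          (by rwa [show (e : G) * h * (e : G)⁻¹ = MulAut.conj (e : G) (h : G) from rfl,
            MulEquiv.orderOf_eq]) hh (htwoN n hn) (hcomm n hn h) (by simpa using hne)
        rw [hn1, mul_one] at hne
        show Commute (e : G) (h : G)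
        exact mul_inv_eq_iff_eq_mul.1 (by simpa using hne)
    have hxE : (x : G) ∈ E := Subgroup.mem_map.2 ⟨x, Subgroup.mem_zpowers _, rfl⟩
    rw [hED] at hxE
    exact (QuotientGroup.eq_one_iff _).2 hxE
  haveI := Fintype.ofFinite (CentQuot D)
  haveI := Fintype.ofFinite H
  have hsq := fun y hy => sum_realInd_sq (F := Cfsg.AlgInt ⧸ M) hQ h2
    (fun v g hv hg e => habQ.commute_of_inverts hv hg e) hsolo y hy
  let f : Ctr (Cfsg.AlgInt ⧸ M) (CentQuot D) :=
    ⟨ofFun fun q => realInd _ q, mem_ctr_iff.2 fun g c => by simp [realInd_conj]⟩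
  have hfc : ∀ q, (f : MonoidAlgebra (Cfsg.AlgInt ⧸ M) (CentQuot D)).coeff q = realInd _ q :=
    fun q => by simp [f]
  have hf : twistCtr k f = f := ctr_ext fun q => by
    rw [coeff_twistCtr, hfc, hfc]
    unfold realInd
    exact if_congr (hQ.isRealOdd_pow q) rfl rfl
  set rb := mapCtr φ r with hrb
  have hrbt : twistCtr k rb = rb := by rw [hrb, twistCtr_mapCtr, hr]
  have hpowt : ∀ m : ℕ, twistCtr k (rb ^ (2 ^ m)) = rb ^ (2 ^ m) := by
    intro m
    induction m with
    | zero => simpa using hrbt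
    | succ m ih => rw [pow_succ, pow_mul, pow_two, twistCtr_mul hk φ hφs, ih]
  -- agreement on the fixed classes of the quotient
  have hagree : ∀ (m : ℕ) (y : CentQuot D), IsConj (y ^ k) y →
      quotFun D (rb ^ (2 ^ m)) y = realInd _ y := by
    intro m
    induction m with
    | zero =>
      intro y _
      rw [pow_zero, pow_one, quotFun_eq]
      simp only [hrb, coeff_mapCtr, hrc]
      unfold realInd
      simp only [apply_ite φ, map_one, map_zero]
      by_cases hy : IsRealOdd y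
      · rw [if_pos hy]
        obtain ⟨h, hh, he⟩ := hliftOdd y hy.2.1
        rw [Finset.sum_eq_single h]
        · rw [if_pos he, if_pos (hrealUp y hy h hh he)]
        · intro b _ hb
          by_cases hbq : (b : CentQuot D) = y
          · rw [if_pos hbq, if_neg]
            intro hbR
            obtain ⟨n, hn, hne⟩ := hdiv h b (he.trans hbq.symm)
            exact hb (Subtype.ext (by
              rw [hne, eq_one_of_odd_mul hbR.2.1 hh (htwoN n hn) (hcomm n hn h) hne, mul_one]))
          · rw [if_neg hbq]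
        · simp
      · rw [if_neg hy]
        refine Finset.sum_eq_zero fun b _ => ?_
        by_cases hbq : (b : CentQuot D) = y
        · rw [if_pos hbq, if_neg]
          exact fun hbR => hy (hbq ▸ hrealDown b hbR)
        · rw [if_neg hbq]
    | succ m ih =>
      intro y hy
      set z := rb ^ (2 ^ m) with hz
      rw [pow_succ, pow_mul, ← hz, pow_two, ← coeff_quotCtr, quotCtr_mul h2 hD]
      set e := quotCtr D z - f with he
      have het : twistCtr k e = e := ctr_ext fun q => by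
        have h1 := congrArg (fun x : Ctr (Cfsg.AlgInt ⧸ M) (CentQuot D) =>
          (x : MonoidAlgebra (Cfsg.AlgInt ⧸ M) (CentQuot D)).coeff q)
          (twistCtr_quotCtr hk D z)
        have h2' := congrArg (fun x : Ctr (Cfsg.AlgInt ⧸ M) (CentQuot D) =>
          (x : MonoidAlgebra (Cfsg.AlgInt ⧸ M) (CentQuot D)).coeff q) hf
        simp only [hpowt, hz] at h1
        simp only [coeff_twistCtr] at h1 h2'
        simp [he, hz, coeff_twistCtr, h1, h2']
      have he0 : ∀ q, IsConj (q ^ k) q →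
          (e : MonoidAlgebra (Cfsg.AlgInt ⧸ M) (CentQuot D)).coeff q = 0 := fun q hq => by
        simp [he, coeff_quotCtr, hfc, ih q hq]
      let num' : CentQuot D → ℕ := fun q => num (ConjClasses.mk q)
      let c : Ctr (Cfsg.AlgInt ⧸ M) (CentQuot D) := ⟨ofFun fun q =>
          if num' q < num' (q ^ k) then (e : MonoidAlgebra _ _).coeff q else 0,
        mem_ctr_iff.2 fun g x => by
          have h1 : num' (x * g * x⁻¹) = num' g := congrArg num
            (ConjClasses.mk_eq_mk_iff_isConj.2 (isConj_iff.2 ⟨x⁻¹, by group⟩))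
          have h2' : num' ((x * g * x⁻¹) ^ k) = num' (g ^ k) := congrArg num
            (ConjClasses.mk_eq_mk_iff_isConj.2 (isConj_iff.2 ⟨x⁻¹, by rw [conj_pow]; group⟩))
          simp only [coeff_ofFun, coeff_conj_of_mem_ctr e.2, h1, h2']⟩
      have hec : e = c + twistCtr k c := ctr_ext fun q => by
        have hcq : ∀ x, (c : MonoidAlgebra (Cfsg.AlgInt ⧸ M) (CentQuot D)).coeff x =
            if num' x < num' (x ^ k) then (e : MonoidAlgebra _ _).coeff x else 0 :=
          fun x => by simp [c]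
        rw [Subring.coe_add, MonoidAlgebra.coeff_add, Finsupp.add_apply, coeff_twistCtr, hcq, hcq,
          hQ.sq, show (e : MonoidAlgebra (Cfsg.AlgInt ⧸ M) (CentQuot D)).coeff (q ^ k) =
            (e : MonoidAlgebra (Cfsg.AlgInt ⧸ M) (CentQuot D)).coeff q by
            rw [← coeff_twistCtr, het]]
        rcases lt_trichotomy (num' q) (num' (q ^ k)) with h | h | h
        · rw [if_pos h, if_neg h.not_gt, add_zero]
        · rw [he0 q (ConjClasses.mk_eq_mk_iff_isConj.1 (num_injective h).symm)]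
          simp
        · rw [if_neg h.not_gt, if_pos h, zero_add]
      have h2c : (2 : Ctr (Cfsg.AlgInt ⧸ M) (CentQuot D)) = 0 := by
        rw [← map_ofNat (scalar (R := Cfsg.AlgInt ⧸ M) (G := CentQuot D)) 2, h2, map_zero]
      have hexp : quotCtr D z * quotCtr D z = f * f + (c * c + twistCtr k (c * c)) := by
        rw [show quotCtr D z = f + e by rw [he]; ring, twistCtr_mul hQ φ hφs, hec]
        linear_combination (f * (c + twistCtr k c) + c * twistCtr k c) * h2c
      rw [hexp, Subring.coe_add, MonoidAlgebra.coeff_add, Finsupp.add_apply, Subring.coe_mul,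
        coeff_mul_eq_sum, Subring.coe_add, MonoidAlgebra.coeff_add, Finsupp.add_apply,
        coeff_twistCtr, coeff_eq_of_isConj (c * c).2 hy]
      simp only [hfc]
      rw [hsq y hy, ← two_mul, h2, zero_mul, add_zero]
  -- contradiction at `s`
  set m := Nat.card (ConjClasses G)
  have hsH : s ∈ H := Subgroup.mem_centralizer_iff.2 fun d hd => (hDs d hd).eq
  have hsQ : IsRealOdd ((⟨s, hsH⟩ : H) : CentQuot D) := hrealDown ⟨s, hsH⟩ hs
  have hsf : IsConj (((⟨s, hsH⟩ : H) : CentQuot D) ^ k) ((⟨s, hsH⟩ : H) : CentQuot D) := by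
    rw [hQ.odd _ hsQ.2.1]
    exact hsQ.2.2.symm
  have hone := hagree m _ hsf
  rw [show realInd (Cfsg.AlgInt ⧸ M) ((⟨s, hsH⟩ : H) : CentQuot D) = 1 from if_pos hsQ,
    quotFun_eq] at hone
  refine one_ne_zero (α := Cfsg.AlgInt ⧸ M) (hone.symm.trans (Finset.sum_eq_zero fun b _ => ?_))
  split_ifs with hb
  · obtain ⟨n, hn, hne⟩ := hdiv ⟨s, hsH⟩ b hb.symm
    refine pow_vanish hk φ h2 r hr hfix (2 ^ m) (Nat.lt_two_pow_self).le (b : G) ?_
    rw [hne]
    show IsConj ((s * (n : G)) ^ k) (s * (n : G))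
    rw [(hcomm n hn ⟨s, hsH⟩).eq]
    exact isConj_twist_of_inverts hk (htwoN n hn) hs.2.1 (hcomm n hn ⟨s, hsH⟩).symm
      (hcomm n hn ⟨w, hwH⟩) hw
  · rfl

end CfsgLib.FixedCharEven
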