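import Cfsg.Agent.FixedCharEven.Twist
import Cfsg.Agent.FixedCharEven.Charpoly
import Cfsg.Agent.RealChars.Basic

/-!
# Central elements annihilated by all fixed characters

If a twist-invariant central element has central character zero modulo a prime above two at every
twist-fixed irreducible character, then its high powers vanish modulo that prime on every fixed
class.
-/

set_option autoImplicit false
set_option linter.unusedSectionVars false
set_option linter.style.haveILetI false

namespace CfsgLib.FixedCharEven

open CfsgLib.Blocks Cfsg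

universe u

variable {G : Type u} [Group G] [Fintype G] {k : ℕ}

/-- The inclusion of the algebraic integers. -/
noncomputable abbrev incl : AlgInt →+* ℂ := (Subalgebra.val AlgInt).toRingHom

theorem incl_injective : Function.Injective incl := Subtype.val_injective

theorem isIntegral_omega_map (χ : IrrCharacter G) (z : Ctr AlgInt G) :
    IsIntegral ℤ (omega χ (mapCtr incl z)) := by
  haveI := Fintype.ofFinite (ConjClasses G)
  rw [eq_sum_classSum (mapCtr incl z), map_sum]
  refine IsIntegral.sum _ fun C _ => ?_
  rw [map_mul, omega_scalar]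
  refine IsIntegral.mul ?_ (isIntegral_omega_classSum χ C)
  rw [classCoeff, coeff_mapCtr]
  exact ((z : MonoidAlgebra AlgInt G).coeff (Quotient.out C)).2

/-- The central character with values in the algebraic integers. -/
noncomputable def omegaA (χ : IrrCharacter G) : Ctr AlgInt G →+* AlgInt :=
  RingHom.codRestrict ((omega χ).comp (mapCtr incl)) AlgInt fun z => isIntegral_omega_map χ z

@[simp] theorem coe_omegaA (χ : IrrCharacter G) (z : Ctr AlgInt G) :
    (omegaA χ z : ℂ) = omega χ (mapCtr incl z) := rfl

theorem omegaA_scalar (χ : IrrCharacter G) (c : AlgInt) : omegaA χ (scalar c) = c :=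
  Subtype.ext (by rw [coe_omegaA, mapCtr_scalar, omega_scalar]; rfl)

theorem omegaA_twistCtr (h : IsTwist k G) (χ : IrrCharacter G) (z : Ctr AlgInt G) :
    omegaA χ (twistCtr k z) = omegaA (twistChar h χ) z :=
  Subtype.ext (by rw [coe_omegaA, coe_omegaA, ← twistCtr_mapCtr, omega_twistCtr h])

theorem omegaA_classSum (χ : IrrCharacter G) (g : G) :
    (omegaA χ (classSum AlgInt (ConjClasses.mk g)) : ℂ) = centralChar (χ : G → ℂ) g := by
  rw [coe_omegaA, mapCtr_classSum, omega_classSum]

theorem card_irr_eq_card_classes :
    Nat.card (IrrCharacter G) = Nat.card (ConjClasses G) := by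
  have h := CfsgLib.RealChars.card_fixed_eq (K := G) id (fun h => h) (fun _ h => h)
  refine (Nat.card_congr (Equiv.subtypeUnivEquiv fun _ => rfl)).symm.trans (h.trans ?_)
  exact Nat.card_congr (Equiv.subtypeUnivEquiv fun _ _ _ => IsConj.refl _)

theorem ctr_eq_zero_of_omegaA {z : Ctr AlgInt G} (h : ∀ χ, omegaA χ z = 0) : z = 0 :=
  mapCtr_injective incl incl_injective (ctr_ext_omega fun χ => by
    rw [map_zero, map_zero, ← coe_omegaA, h]
    rfl)

theorem classCoeff_sum_scalar [Fintype (ConjClasses G)] {R : Type*} [CommRing R]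
    (v : ConjClasses G → R) (C : ConjClasses G) :
    classCoeff (∑ D, scalar (v D) * classSum R D) C = v C := by
  classical
  obtain ⟨g, rfl⟩ := ConjClasses.mk_surjective C
  rw [classCoeff_mk, AddSubmonoidClass.coe_finsetSum, MonoidAlgebra.coeff_sum,
    Finsupp.finsetSum_apply, Finset.sum_eq_single (ConjClasses.mk g)]
  · simp [coeff_classSum]
  · intro D _ hD; simp [coeff_classSum, hD.symm]
  · simp

theorem classCoeff_mul_expand [Fintype (ConjClasses G)] {R : Type*} [CommRing R]
    (a z : Ctr R G) (C : ConjClasses G) :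
    classCoeff (a * z) C = ∑ D, classCoeff (a * classSum R D) C * classCoeff z D := by
  classical
  conv_lhs => rw [eq_sum_classSum z]
  simp only [Finset.mul_sum]
  rw [classCoeff, AddSubmonoidClass.coe_finsetSum, MonoidAlgebra.coeff_sum,
    Finsupp.finsetSum_apply]
  refine Finset.sum_congr rfl fun D _ => ?_
  rw [← mul_assoc, mul_comm a (scalar _), mul_assoc, Subring.coe_mul, coe_scalar,
    MonoidAlgebra.coeff_single_mul_apply, inv_one, one_mul, mul_comm]
  rfl

/-- High powers vanish modulo two on the fixed classes. -/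
theorem pow_vanish (h : IsTwist k G) {F : Type*} [CommRing F] [IsDomain F] (φ : AlgInt →+* F)
    (h2 : (2 : F) = 0) (r : Ctr AlgInt G) (hr : twistCtr k r = r)
    (hfix : ∀ χ : IrrCharacter G, twistChar h χ = χ → φ (omegaA χ r) = 0)
    (n : ℕ) (hn : Nat.card (ConjClasses G) ≤ n) (g : G) (hg : IsConj (g ^ k) g) :
    (((mapCtr φ r) ^ n : Ctr F G) : MonoidAlgebra F G).coeff g = 0 := by
  classical
  haveI := Fintype.ofFinite (ConjClasses G)
  let W : Matrix (IrrCharacter G) (ConjClasses G) AlgInt :=
    Matrix.of fun χ C => omegaA χ (classSum AlgInt C)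
  let P : Matrix (ConjClasses G) (ConjClasses G) AlgInt :=
    Matrix.of fun C D => classCoeff (r * classSum AlgInt D) C
  have hθ := twistClass_involutive h
  have hW : Function.Injective W.mulVec := by
    refine (injective_iff_map_eq_zero W.mulVecLin).2 fun v hv => ?_
    have hz : (∑ D, scalar (v D) * classSum AlgInt D : Ctr AlgInt G) = 0 := by
      refine ctr_eq_zero_of_omegaA fun χ => ?_
      have := congrFun hv χ
      simp only [Matrix.mulVecLin_apply, Matrix.mulVec, dotProduct, Pi.zero_apply, W,
        Matrix.of_apply] at this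
      rw [map_sum, ← this]
      exact Finset.sum_congr rfl fun D _ => by rw [map_mul, omegaA_scalar, mul_comm]
    funext C
    have := classCoeff_sum_scalar v C
    rw [hz] at this
    rw [← this]
    simp [classCoeff]
  have hWP : ∀ χ D, ∑ C, W χ C * P C D = omegaA χ r * W χ D := by
    intro χ D
    simp only [W, P, Matrix.of_apply]
    rw [← map_mul]
    conv_rhs => rw [eq_sum_classSum (r * classSum AlgInt D), map_sum]
    exact Finset.sum_congr rfl fun C _ => by rw [map_mul, omegaA_scalar, mul_comm]
  have hWσ : ∀ χ C, W (twistChar h χ) (twistClass k C) = W χ C := by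
    intro χ C
    simp only [W, Matrix.of_apply]
    rw [← twistCtr_classSum h, omegaA_twistCtr h, twistChar_involutive h]
  have hPθ : ∀ C D, P (twistClass k C) (twistClass k D) = P C D := by
    intro C D
    simp only [P, Matrix.of_apply]
    rw [← classCoeff_twistCtr, twistCtr_mul_int h, hr, twistCtr_classSum h, hθ]
  set v : ConjClasses G → F := fun C => classCoeff (1 : Ctr F G) C with hv
  have hvθ : ∀ C, v (twistClass k C) = v C := by
    intro C
    obtain ⟨x, rfl⟩ := ConjClasses.mk_surjective C
    simp only [hv, twistClass_mk, classCoeff_mk]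
    have e : x ^ k = 1 ↔ x = 1 :=
      ⟨fun e => by rw [← h.sq x, e, one_pow], fun e => by rw [e, one_pow]⟩
    simp [MonoidAlgebra.one_def, Finsupp.single_apply, eq_comm (a := (1 : G)), e]
  have hpow : ∀ m, (fun C => classCoeff ((mapCtr φ r) ^ m) C) = ((P.map φ) ^ m).mulVec v := by
    intro m
    induction m with
    | zero => simp [hv]
    | succ m ih =>
      rw [pow_succ' (P.map φ), ← Matrix.mulVec_mulVec, ← ih]
      funext C
      rw [pow_succ', classCoeff_mul_expand]
      simp only [Matrix.mulVec, dotProduct, Matrix.map_apply, P, Matrix.of_apply]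
      refine Finset.sum_congr rfl fun D _ => ?_
      simp only [classCoeff]
      rw [← coeff_mapCtr φ (r * classSum AlgInt D), map_mul, mapCtr_classSum]
  have hmain := nilp_fixed φ h2 two_ne_zero hθ (twistChar_involutive h) W P
    (fun χ => omegaA χ r)
    (by rw [← Nat.card_eq_fintype_card, ← Nat.card_eq_fintype_card, card_irr_eq_card_classes])
    hW hWσ hPθ hWP hfix v hvθ n (by rwa [← Nat.card_eq_fintype_card]) (ConjClasses.mk g)
    ((twistClass_fixed_iff k g).2 hg)
  rw [← congrFun (hpow n) (ConjClasses.mk g)] at hmain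
  rwa [classCoeff_mk] at hmain

/-- If every member of `K` lies in a class of even size, an odd-degree character has central
character zero modulo two at the sum of `K`. -/
theorem omega_map_zero_of_odd {F : Type*} [CommRing F] [IsDomain F] (φ : AlgInt →+* F)
    (h2 : (2 : F) = 0) (χ : IrrCharacter G) (hodd : Odd (charDegree (χ : G → ℂ)))
    (r : Ctr AlgInt G)
    (hr : ∀ g : G, (r : MonoidAlgebra AlgInt G).coeff g ≠ 0 →
      Even (Subgroup.centralizer ({g} : Set G)).index) :
    φ (omegaA χ r) = 0 := by
  classical
  haveI := Fintype.ofFinite (ConjClasses G)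
  rw [eq_sum_classSum r, map_sum, map_sum]
  refine Finset.sum_eq_zero fun C _ => ?_
  obtain ⟨g, rfl⟩ := ConjClasses.mk_surjective C
  rw [map_mul, map_mul, omegaA_scalar, classCoeff_mk]
  by_cases hg : (r : MonoidAlgebra AlgInt G).coeff g = 0
  · rw [hg, map_zero, zero_mul]
  obtain ⟨c, hc⟩ := hr g hg
  have hchi : IsIntegral ℤ ((χ : G → ℂ) g) := by
    obtain ⟨m, ρ, hρ, hch⟩ := χ.2
    obtain ⟨μ, hμ, hj, -⟩ := Characters.exists_eigenvalues ρ g
    rw [← hch, show ρ.character g = ∑ i, μ i by simpa using hj 1]
    exact IsIntegral.sum _ fun i _ =>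
      IsIntegral.of_pow (orderOf_pos g) (by rw [hμ i]; exact isIntegral_one)
  have key : (charDegree (χ : G → ℂ) : AlgInt) * omegaA χ (classSum AlgInt (ConjClasses.mk g)) =
      (2 * c : ℕ) * (⟨(χ : G → ℂ) g, hchi⟩ : AlgInt) := by
    refine Subtype.ext ?_
    push_cast
    rw [omegaA_classSum, centralChar, charDegree_eq, hc]
    have := Characters.irr_one_ne_zero χ.2
    push_cast
    rw [show ((2 : AlgInt) : ℂ) = 2 from map_ofNat incl 2]
    field_simp
    ring
  have h3 := congrArg φ key
  obtain ⟨d, hd⟩ := hodd
  rw [hd] at h3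
  simp only [map_mul, map_natCast, Nat.cast_add, Nat.cast_mul, Nat.cast_ofNat, Nat.cast_one,
    map_add, map_one, map_ofNat, h2, zero_mul, zero_add, one_mul] at h3
  rw [h3, mul_zero]

end CfsgLib.FixedCharEven
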