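import Cfsg.Agent.FixedCharEven.Main
import Cfsg.Agent.Blocks.Sections

/-!
# A second twist-fixed character in the principal 2-block of a group of even order
-/

set_option autoImplicit false
set_option linter.unusedSectionVars false
set_option linter.style.haveILetI false

namespace CfsgLib.FixedCharEven

open CfsgLib.Blocks Cfsg

universe u

variable {G : Type u} [Group G] [Finite G] {k : ℕ}

theorem twistChar_mem_principal (hk : IsTwist k G) (M : Ideal AlgInt) {χ : IrrCharacter G}
    (h : χ ∈ principalBlock M G) : twistChar hk χ ∈ principalBlock M G := by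
  intro g
  have := h (g ^ k)
  simp only [centralChar, hk.centralizer_eq] at this
  simpa [centralChar, twistChar_apply] using this

theorem exists_principal_fixed [Fintype G] (hk : IsTwist k G) {M : Ideal AlgInt}
    (hM : IsPModular 2 M) {t : G} (ht : orderOf t = 2) :
    ∃ χ ∈ principalBlock M G, (χ : G → ℂ) ≠ (fun _ => 1) ∧
      ∀ g : G, (χ : G → ℂ) (g ^ k) = (χ : G → ℂ) g := by
  classical
  haveI : Fact (Nat.Prime 2) := ⟨Nat.prime_two⟩
  haveI := hM.2.1
  haveI : M.IsPrime := hM.2.1.isPrime
  set φ : AlgInt →+* AlgInt ⧸ M := Ideal.Quotient.mk M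
  have h2 : (2 : AlgInt ⧸ M) = 0 := by
    rw [← map_ofNat φ 2]
    exact Ideal.Quotient.eq_zero_iff_mem.2 (by exact_mod_cast hM.2.2)
  by_contra hno
  simp only [not_exists, not_and] at hno
  let one : IrrCharacter G := ⟨fun _ => 1, Characters.isIrr_one⟩
  have hB : IsPBlock M (principalBlock M G) := ⟨one, rfl⟩
  have hone : one ∈ principalBlock M G := fun g => by
    rw [show (one : G → ℂ) = fun _ => (1 : ℂ) from rfl, sub_self]
    exact ⟨0, 1, M.zero_mem, fun h => hM.2.1.ne_top ((Ideal.eq_top_iff_one M).2 h), by simp⟩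
  -- block orthogonality between `1` and `t`
  have horth := sum_block_mul_inv_eq_zero hM (g := (1 : G)) (h := t) (x := 1) (y := t)
    ⟨1, by simp, Commute.refl 1, ⟨0, by simp⟩, by simp⟩
    ⟨1, by simp, Commute.one_right t, ⟨1, by simpa using ht⟩, by simp⟩
    (fun hc => by
      have := (isConj_one_right.1 hc)
      rw [this, orderOf_one] at ht
      exact absurd ht (by norm_num)) hB
  have htt : t⁻¹ = t := by
    refine inv_eq_of_mul_eq_one_right ?_
    rw [← sq, ← ht, pow_orderOf_eq_one]
  have hint : ∀ (χ : IrrCharacter G) (g : G), IsIntegral ℤ ((χ : G → ℂ) g) := fun χ g => by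
    obtain ⟨m, ρ, hρ, hch⟩ := χ.2
    obtain ⟨μ, hμ, hj, -⟩ := Characters.exists_eigenvalues ρ g
    rw [← hch, show ρ.character g = ∑ i, μ i by simpa using hj 1]
    exact IsIntegral.sum _ fun i _ =>
      IsIntegral.of_pow (orderOf_pos g) (by rw [hμ i]; exact isIntegral_one)
  let val : IrrCharacter G → G → AlgInt := fun χ g => ⟨(χ : G → ℂ) g, hint χ g⟩
  let a : IrrCharacter G → AlgInt ⧸ M := fun χ => φ (val χ 1 * val χ t)
  have hsum : ∑ χ ∈ Finset.univ.filter (fun χ => χ ∈ principalBlock M G), a χ = 0 := by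
    simp only [a]
    rw [← map_sum, ← map_zero φ]
    congr 1
    refine Subtype.ext ?_
    rw [AddSubmonoidClass.coe_finsetSum, Finset.sum_filter]
    refine Eq.trans ?_ horth
    exact Finset.sum_congr rfl fun χ _ => by rw [htt]; rfl
  rw [sum_eq_fixed h2 _ (twistChar hk) (fun χ _ => twistChar_involutive hk χ)
    (fun χ h => twistChar_mem_principal hk M h) a (fun χ _ => ?_)] at hsum
  swap
  · simp only [a]
    refine congrArg φ (Subtype.ext ?_)
    simp only [val, MulMemClass.coe_mul, twistChar_apply, one_pow,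
      hk.two t ⟨1, by simpa using ht⟩]
  rw [Finset.sum_eq_single one] at hsum
  · refine one_ne_zero (α := AlgInt ⧸ M) ?_
    rw [← hsum]
    simp only [a]
    rw [show val one 1 * val one t = 1 from Subtype.ext (mul_one _), map_one]
  · intro χ hχ hne
    simp only [Finset.mem_filter, Finset.mem_univ, true_and] at hχ
    exact absurd ((twistChar_eq_iff hk χ).1 hχ.2)
      (hno χ hχ.1 fun e => hne (Subtype.ext e))
  · intro h
    exact absurd (Finset.mem_filter.2 ⟨Finset.mem_univ _, hone, Subtype.ext rfl⟩) h

end CfsgLib.FixedCharEven
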