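import Cfsg.Agent.FixedCharEven.Twist
import Cfsg.Agent.RealElements.Basic
import Cfsg.Agent.BlockPairs.Orbit

/-!
# The sum of the real elements of odd order, squared modulo two

Let the non-identity real elements of odd order of `G` commute with no non-trivial 2-element, and let
2-elements inverted by 2-elements commute with them.  Then the indicator of these elements is
idempotent, modulo two, at every element `y` conjugate to `y ^ k`.
-/

set_option autoImplicit false
set_option linter.unusedSectionVars false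
set_option linter.style.haveILetI false

namespace CfsgLib.FixedCharEven

universe u

variable {G : Type u} [Group G] [Finite G] {k : ℕ}

/-- A non-identity element of odd order conjugate to its inverse. -/
def IsRealOdd (t : G) : Prop := t ≠ 1 ∧ Odd (orderOf t) ∧ IsConj t t⁻¹

theorem isConj_inv {a b : G} (h : IsConj a b) : IsConj a⁻¹ b⁻¹ := by
  obtain ⟨c, rfl⟩ := isConj_iff.1 h
  exact isConj_iff.2 ⟨c, conj_inv.symm⟩

theorem IsRealOdd.inv {t : G} (h : IsRealOdd t) : IsRealOdd t⁻¹ :=
  ⟨inv_ne_one.2 h.1, by rw [orderOf_inv]; exact h.2.1, by rw [inv_inv]; exact h.2.2.symm⟩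

theorem IsRealOdd.of_isConj {t s : G} (h : IsRealOdd t) (hts : IsConj t s) : IsRealOdd s := by
  refine ⟨fun e => h.1 ?_, ?_, (hts.symm.trans h.2.2).trans (isConj_inv hts)⟩
  · subst e
    exact isConj_one_left.1 hts
  · obtain ⟨c, rfl⟩ := isConj_iff.1 hts
    rw [show c * t * c⁻¹ = MulAut.conj c t from rfl, MulEquiv.orderOf_eq]
    exact h.2.1

theorem isRealOdd_conj_iff (t c : G) : IsRealOdd (c * t * c⁻¹) ↔ IsRealOdd t :=
  ⟨fun h => h.of_isConj (isConj_iff.2 ⟨c⁻¹, by group⟩), fun h => h.of_isConj (isConj_iff.2 ⟨c, rfl⟩)⟩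

theorem IsTwist.isRealOdd_pow (hk : IsTwist k G) (t : G) : IsRealOdd (t ^ k) ↔ IsRealOdd t := by
  refine ⟨fun h => ?_, fun h => by rw [hk.odd t h.2.1]; exact h.inv⟩
  have ht : Odd (orderOf t) := hk.orderOf_pow t ▸ h.2.1
  rw [hk.odd t ht] at h
  simpa using h.inv

/-- A sum over an involution is the sum over its fixed points, in characteristic two. -/
theorem sum_eq_fixed {α F : Type*} [Fintype α] [DecidableEq α] [CommRing F] (h2 : (2 : F) = 0)
    (p : α → Prop) [DecidablePred p] (g : α → α) (hg : ∀ a, p a → g (g a) = a)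
    (hpg : ∀ a, p a → p (g a)) (f : α → F) (hf : ∀ a, p a → f (g a) = f a) :
    ∑ a ∈ Finset.univ.filter p, f a = ∑ a ∈ Finset.univ.filter (fun a => p a ∧ g a = a), f a := by
  rw [← Finset.sum_filter_add_sum_filter_not (Finset.univ.filter p) (fun a => g a = a) f,
    Finset.filter_filter, add_eq_left, Finset.filter_filter]
  refine Finset.sum_involution (fun a _ => g a) ?_ ?_ ?_ ?_
  · intro a ha
    simp only [Finset.mem_filter, Finset.mem_univ, true_and] at ha
    rw [hf a ha.1, ← two_mul, h2, zero_mul]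
  · intro a ha _
    simp only [Finset.mem_filter, Finset.mem_univ, true_and] at ha
    exact ha.2
  · intro a ha
    simp only [Finset.mem_filter, Finset.mem_univ, true_and] at ha ⊢
    exact ⟨hpg a ha.1, fun e => ha.2 (by rw [hg a ha.1] at e; exact e.symm)⟩
  · intro a ha
    simp only [Finset.mem_filter, Finset.mem_univ, true_and] at ha
    exact hg a ha.1

open Classical in
/-- The indicator of the real elements of odd order. -/
noncomputable def realInd (F : Type*) [CommRing F] (t : G) : F := if IsRealOdd t then 1 else 0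

section Square

variable {F : Type*} [CommRing F]

theorem realInd_mul_self (t : G) : realInd F t * realInd F t = realInd F t := by
  unfold realInd; split <;> simp

theorem realInd_inv (t : G) : realInd F t⁻¹ = realInd F t := by
  classical
  unfold realInd
  exact if_congr ⟨fun h => by simpa using h.inv, fun h => h.inv⟩ rfl rfl

theorem realInd_conj (t c : G) : realInd F (c * t * c⁻¹) = realInd F t := by
  classical
  unfold realInd
  exact if_congr (isRealOdd_conj_iff t c) rfl rfl

theorem realInd_mul_comm (a b : G) : realInd F (a * b) = realInd F (b * a) := by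
  rw [← realInd_conj (b * a) a]
  congr 1
  group

open Classical in
theorem sum_realInd_sq [Fintype G] (hk : IsTwist k G) (h2 : (2 : F) = 0)
    (hab : ∀ v g : G, (∃ j, orderOf v = 2 ^ j) → (∃ j, orderOf g = 2 ^ j) →
      g * v * g⁻¹ = v⁻¹ → Commute g v)
    (hsolo : ∀ t v : G, IsRealOdd t → (∃ j, orderOf v = 2 ^ j) → Commute v t → v = 1)
    (y : G) (hy : IsConj (y ^ k) y) :
    ∑ a : G, realInd F a * realInd F (a⁻¹ * y) = realInd F y := by
  obtain ⟨u, t, hut, hcomm, hu, ht, hug, htg⟩ := exists_decomp y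
  rcases eq_or_ne t 1 with rfl | ht1
  · rw [mul_one] at hut
    subst hut
    have hr : realInd F u = 0 :=
      if_neg fun h => h.1 (eq_one_of_two_power_of_odd hu h.2.1)
    rw [hr]
    rcases eq_or_ne u 1 with rfl | hu1
    · simp only [mul_one, realInd_inv, realInd_mul_self]
      have h := sum_eq_fixed h2 (fun _ : G => True) (fun a => a⁻¹) (fun a _ => inv_inv a)
        (fun _ _ => trivial) (realInd F) (fun a _ => realInd_inv a)
      simp only [Finset.filter_true, true_and] at h
      rw [h]
      refine Finset.sum_eq_zero fun a ha => if_neg fun hr => hr.1 ?_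
      have ha' : a⁻¹ = a := (Finset.mem_filter.1 ha).2
      refine orderOf_eq_one_iff.1 (Nat.eq_one_of_dvd_coprimes
        (Nat.coprime_two_right.2 hr.2.1) dvd_rfl ?_)
      rw [orderOf_dvd_iff_pow_eq_one, sq]
      nth_rw 1 [← ha']
      exact inv_mul_cancel a
    · have : Fact (Nat.Prime 2) := ⟨Nat.prime_two⟩
      letI : MulAction (Subgroup.zpowers u) G :=
        { smul := fun r g => (r : G) * g * (r : G)⁻¹
          one_smul := fun g => show (1 : G) * g * (1 : G)⁻¹ = g by simp
          mul_smul := fun r s g => show ((r : G) * s) * g * ((r : G) * s)⁻¹ =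
            (r : G) * ((s : G) * g * (s : G)⁻¹) * (r : G)⁻¹ by group }
      have hp : IsPGroup 2 (Subgroup.zpowers u) := by
        obtain ⟨j, hj⟩ := hu
        exact IsPGroup.of_card (n := j) (by rw [Nat.card_zpowers, hj])
      rw [CfsgLib.BlockPairs.sum_eq_sum_fixed hp (fun x : F => by rw [two_nsmul, ← two_mul, h2, zero_mul])
        (fun a => realInd F a * realInd F (a⁻¹ * u))]
      · refine Finset.sum_eq_zero fun a ha => ?_
        have hfix : u * a * u⁻¹ = a :=
          (Finset.mem_filter.1 ha).2 ⟨u, Subgroup.mem_zpowers u⟩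
        rw [show realInd F a = 0 from if_neg fun h => hu1 (hsolo a u h hu
          (mul_inv_eq_iff_eq_mul.1 hfix)), zero_mul]
      · intro r a
        show realInd F ((r : G) * a * (r : G)⁻¹) *
          realInd F (((r : G) * a * (r : G)⁻¹)⁻¹ * u) = _
        have hru : (r : G) * u * (r : G)⁻¹ = u := by
          obtain ⟨i, hi⟩ := r.2
          rw [← hi]
          show u ^ i * u * (u ^ i)⁻¹ = u
          group
        have e : ((r : G) * a * (r : G)⁻¹)⁻¹ * u = (r : G) * (a⁻¹ * u) * (r : G)⁻¹ := by
          calc ((r : G) * a * (r : G)⁻¹)⁻¹ * u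
              = ((r : G) * a * (r : G)⁻¹)⁻¹ * ((r : G) * u * (r : G)⁻¹) := by rw [hru]
            _ = _ := by group
        rw [e, realInd_conj, realInd_conj]
  -- the odd part is real, hence `y` is real of odd order
  have htreal : IsRealOdd t := by
    obtain ⟨i, hi⟩ := htg
    refine ⟨ht1, ht, ?_⟩
    obtain ⟨c, hc⟩ := isConj_iff.1 hy
    refine (isConj_iff.2 ⟨c, ?_⟩ : IsConj t⁻¹ t).symm
    rw [← hk.odd t ht, ← hi]
    show c * (y ^ i) ^ k * c⁻¹ = y ^ i
    rw [← zpow_natCast (y ^ i) k, ← zpow_mul, mul_comm, zpow_mul, zpow_natCast, ← conj_zpow, hc]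
  obtain rfl : u = 1 := hsolo t u htreal hu hcomm
  rw [one_mul] at hut
  subst hut
  obtain ⟨w, hw2, hw⟩ := RealElements.exists_two_element_inverting htreal.2.2
  -- the inverting element is an involution
  have hww : w * w = 1 := by
    refine hsolo t (w * w) htreal ?_ ?_
    · obtain ⟨j, hj⟩ := hw2
      obtain ⟨i, -, hi⟩ := (Nat.dvd_prime_pow Nat.prime_two).1
        (show orderOf (w * w) ∣ 2 ^ j from hj ▸ (sq w ▸ orderOf_pow_dvd 2))
      exact ⟨i, hi⟩
    · refine mul_inv_eq_iff_eq_mul.1 ?_
      calc w * w * t * (w * w)⁻¹ = w * (w * t * w⁻¹) * w⁻¹ := by group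
        _ = w * t⁻¹ * w⁻¹ := by rw [hw]
        _ = (w * t * w⁻¹)⁻¹ := by group
        _ = t := by rw [hw, inv_inv]
  have hwinv : w⁻¹ = w := (eq_inv_of_mul_eq_one_left hww).symm
  rw [hwinv] at hw
  have hw1 : w ≠ 1 := by
    rintro rfl
    rw [one_mul, mul_one] at hw
    refine htreal.1 (orderOf_eq_one_iff.1 (Nat.eq_one_of_dvd_coprimes
      (Nat.coprime_two_right.2 ht) dvd_rfl ?_))
    rw [orderOf_dvd_iff_pow_eq_one, sq]
    nth_rw 1 [hw]
    exact inv_mul_cancel t
  -- a square root of `t`
  obtain ⟨d, hd⟩ := ht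
  set r := t ^ (d + 1) with hr
  have hrr : r * r = t := by
    rw [hr, ← pow_add, show d + 1 + (d + 1) = (2 * d + 1) + 1 by ring, ← hd, pow_succ,
      pow_orderOf_eq_one, one_mul]
  have hwrw : w * r * w = r⁻¹ := by
    have e := conj_pow (i := d + 1) (a := w) (b := t)
    rw [hwinv, hw, inv_pow] at e
    exact e.symm
  have hwr : w * r⁻¹ = r * w := by
    rw [← hwrw, mul_assoc, ← mul_assoc w w (r * w), hww, one_mul]
  have hrw' : w * r = r⁻¹ * w := by
    rw [← hwrw, mul_assoc (w * r), hww, mul_one]
  -- first reduction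
  have step1 : ∑ a : G, realInd F a * realInd F (a⁻¹ * t) =
      ∑ a ∈ Finset.univ.filter (fun a => True ∧ w * (t⁻¹ * a) * w = a),
        realInd F a * realInd F (a⁻¹ * t) := by
    have e1 : ∀ a : G, realInd F (w * (t⁻¹ * a) * w) = realInd F (a⁻¹ * t) := fun a => by
      have h' := realInd_conj (F := F) (t⁻¹ * a) w
      rw [hwinv] at h'
      rw [h', ← realInd_inv (F := F) (a⁻¹ * t), mul_inv_rev, inv_inv]
    refine Eq.trans ?_ (sum_eq_fixed h2 (fun _ : G => True) (fun a => w * (t⁻¹ * a) * w) ?_
      (fun _ _ => trivial) _ ?_)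
    · simp
    · intro a _
      have e : w * t⁻¹ * w = t := by
        rw [← hw]
        calc w * (w * t * w) * w = (w * w) * t * (w * w) := by group
          _ = t := by rw [hww, one_mul, mul_one]
      calc w * (t⁻¹ * (w * (t⁻¹ * a) * w)) * w = (w * t⁻¹ * w) * t⁻¹ * a * (w * w) := by group
        _ = a := by rw [e, hww, mul_inv_cancel, one_mul, mul_one]
    · intro a _
      show realInd F (w * (t⁻¹ * a) * w) * realInd F ((w * (t⁻¹ * a) * w)⁻¹ * t) = _
      have e2 : realInd F ((w * (t⁻¹ * a) * w)⁻¹ * t) = realInd F a := by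
        have : (w * (t⁻¹ * a) * w)⁻¹ * t = w * a⁻¹ * w⁻¹ := by
          rw [mul_inv_rev, mul_inv_rev, mul_inv_rev, inv_inv, hwinv]
          calc w * (a⁻¹ * t * w) * t = w * a⁻¹ * (t * (w * t * w) * w⁻¹) := by group
            _ = w * a⁻¹ * w⁻¹ := by rw [hw, mul_inv_cancel, one_mul]
            _ = w * a⁻¹ * w := by rw [hwinv]
        rw [this, realInd_conj, realInd_inv]
      rw [e1, e2, mul_comm]
  rw [step1]
  -- pass to the centraliser of `w`
  have step2 : ∑ a ∈ Finset.univ.filter (fun a => True ∧ w * (t⁻¹ * a) * w = a),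
        realInd F a * realInd F (a⁻¹ * t) =
      ∑ c ∈ Finset.univ.filter (fun c => w * c * w = c), realInd F (r * c) := by
    have key : ∀ c : G, w * (t⁻¹ * (r * c)) * w = r * (w * c * w) := fun c => by
      rw [← hrr]
      calc w * ((r * r)⁻¹ * (r * c)) * w = w * r⁻¹ * (c * w) := by group
        _ = r * w * (c * w) := by rw [hwr]
        _ = r * (w * c * w) := by group
    refine Finset.sum_nbij' (fun a => r⁻¹ * a) (fun c => r * c) ?_ ?_ (fun a _ => by simp)
      (fun c _ => by simp) ?_
    · intro a ha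
      simp only [Finset.mem_filter, Finset.mem_univ, true_and] at ha ⊢
      have := key (r⁻¹ * a)
      rw [mul_inv_cancel_left, ha] at this
      rw [eq_inv_mul_iff_mul_eq]
      exact this.symm
    · intro c hc
      simp only [Finset.mem_filter, Finset.mem_univ, true_and] at hc ⊢
      rw [key, hc]
    · intro a ha
      simp only [Finset.mem_filter, Finset.mem_univ, true_and] at ha
      rw [mul_inv_cancel_left]
      suffices h : realInd F (a⁻¹ * t) = realInd F a by rw [h, realInd_mul_self]
      have h' := realInd_conj (F := F) (t⁻¹ * a) w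
      rw [hwinv, ha] at h'
      rw [h', ← realInd_inv (F := F) (a⁻¹ * t), mul_inv_rev, inv_inv]
  rw [step2]
  -- pass to the involutions of the centraliser
  have step3 : ∑ c ∈ Finset.univ.filter (fun c => w * c * w = c), realInd F (r * c) =
      ∑ c ∈ Finset.univ.filter (fun c => w * c * w = c ∧ c⁻¹ = c), realInd F (r * c) := by
    refine sum_eq_fixed h2 (fun c => w * c * w = c) (fun c => c⁻¹) (fun c _ => inv_inv c) ?_ _ ?_
    · intro c hc
      calc w * c⁻¹ * w = (w⁻¹ * c * w⁻¹)⁻¹ := by group
        _ = c⁻¹ := by rw [hwinv, hc]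
    · intro c hc
      show realInd F (r * c⁻¹) = realInd F (r * c)
      rw [← realInd_inv (F := F) (r * c⁻¹), mul_inv_rev, inv_inv, realInd_mul_comm,
        ← realInd_conj (F := F) (r⁻¹ * c) w, hwinv]
      congr 1
      calc w * (r⁻¹ * c) * w = w * r⁻¹ * (c * w) := by group
        _ = r * (w * c * w) := by rw [hwr]; group
        _ = r * c := by rw [hc]
  rw [step3]
  -- evaluate
  set Ω := Finset.univ.filter (fun c : G => w * c * w = c ∧ c⁻¹ = c) with hΩ
  have hwΩ : w ∈ Ω := by
    simp only [hΩ, Finset.mem_filter, Finset.mem_univ, true_and]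
    exact ⟨by rw [hww, one_mul], hwinv⟩
  have hval : ∀ c ∈ Ω, realInd F (r * c) = if c = w then (0 : F) else 1 := by
    intro c hc
    simp only [hΩ, Finset.mem_filter, Finset.mem_univ, true_and] at hc
    obtain ⟨hcw, hcc⟩ := hc
    have hc2 : c * c = 1 := by
      nth_rw 1 [← hcc]
      exact inv_mul_cancel c
    have hcwc : w * c = c * w := by
      calc w * c = w * c * (w * w) := by rw [hww, mul_one]
        _ = (w * c * w) * w := by group
        _ = c * w := by rw [hcw]
    split_ifs with hcw'
    · rw [hcw']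
      refine if_neg fun h => h.1 (orderOf_eq_one_iff.1 (Nat.eq_one_of_dvd_coprimes
        (Nat.coprime_two_right.2 h.2.1) dvd_rfl ?_))
      rw [orderOf_dvd_iff_pow_eq_one, sq]
      calc r * w * (r * w) = r * (w * r * w) := by group
        _ = 1 := by rw [hwrw, mul_inv_cancel]
    -- `c * w` inverts `r * c`
    set g := c * w with hg
    have hgg : g * g = 1 := by
      rw [hg]
      calc c * w * (c * w) = c * (w * c * w) := by group
        _ = 1 := by rw [hcw, hc2]
    have hginv : g * (r * c) * g⁻¹ = (r * c)⁻¹ := by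
      rw [mul_inv_rev, hcc, hg, mul_inv_rev, hwinv, hcc]
      calc c * w * (r * c) * (w * c) = c * (w * r) * c * (w * c) := by group
        _ = c * r⁻¹ * (w * c * w) * c := by rw [hrw']; group
        _ = c * r⁻¹ := by rw [hcw, mul_assoc (c * r⁻¹), hc2, mul_one]
    obtain ⟨v, t', hvt, hvc, hv, ht', hvg, ht'g⟩ := exists_decomp (r * c)
    have hpowinv : ∀ z ∈ Subgroup.zpowers (r * c), g * z * g⁻¹ = z⁻¹ := by
      rintro z ⟨i, rfl⟩
      show g * (r * c) ^ i * g⁻¹ = ((r * c) ^ i)⁻¹
      rw [← conj_zpow, hginv, inv_zpow]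
    have hg2 : ∃ j, orderOf g = 2 ^ j := by
      obtain ⟨i, -, hi⟩ := (Nat.dvd_prime_pow Nat.prime_two).1
        (show orderOf g ∣ 2 ^ 1 by rw [orderOf_dvd_iff_pow_eq_one, pow_one, sq, hgg])
      exact ⟨i, hi⟩
    rcases eq_or_ne t' 1 with rfl | ht'1
    · exfalso
      have hgv := hpowinv v hvg
      rw [(hab v g hv hg2 hgv).eq, mul_inv_cancel_right] at hgv
      rw [mul_one] at hvt
      rw [hvt] at hgv
      have hrc : c * r * c = r⁻¹ := by
        refine eq_inv_of_mul_eq_one_right ?_
        calc r * (c * r * c) = (r * c) * (r * c) := by group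
          _ = 1 := by nth_rw 2 [hgv]; exact mul_inv_cancel _
      -- `g` commutes with `t`
      have hgr : g * r * g⁻¹ = r := by
        rw [hg, mul_inv_rev, hwinv, hcc]
        calc c * w * r * (w * c) = c * (w * r * w) * c := by group
          _ = (c * r * c)⁻¹ := by rw [hwrw, mul_inv_rev, mul_inv_rev, hcc]; group
          _ = r := by rw [hrc, inv_inv]
      have hgt : Commute g t := by
        rw [← hrr]
        have : Commute g r := mul_inv_eq_iff_eq_mul.1 hgr
        exact this.mul_right this
      have hg1 := hsolo t g htreal hg2 hgt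
      apply hcw'
      rw [hg] at hg1
      calc c = c * (w * w) := by rw [hww, mul_one]
        _ = c * w * w := by group
        _ = w := by rw [hg1, one_mul]
    · have ht'r : IsRealOdd t' := ⟨ht'1, ht', isConj_iff.2 ⟨g, hpowinv t' ht'g⟩⟩
      obtain rfl : v = 1 := hsolo t' v ht'r hv hvc
      rw [one_mul] at hvt
      exact if_pos (hvt ▸ ht'r)
  rw [Finset.sum_congr rfl hval]
  have hpar : ∑ _c ∈ Ω, (1 : F) = 0 := by
    refine Finset.sum_involution (fun c _ => c * w) ?_ ?_ ?_ ?_
    · intro c _
      rw [← two_mul, h2, zero_mul]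
    · intro c _ _
      simpa using hw1
    · intro c hc
      simp only [hΩ, Finset.mem_filter, Finset.mem_univ, true_and] at hc ⊢
      refine ⟨?_, ?_⟩
      · calc w * (c * w) * w = (w * c * w) * w := by group
          _ = c * w := by rw [hc.1]
      · rw [mul_inv_rev, hwinv, hc.2]
        calc w * c = w * c * (w * w) := by rw [hww, mul_one]
          _ = (w * c * w) * w := by group
          _ = c * w := by rw [hc.1]
    · intro c _
      rw [mul_assoc, hww, mul_one]
  rw [show realInd F t = 1 from if_pos htreal]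
  have hsum : ∑ c ∈ Ω, (if c = w then (0 : F) else 1) + 1 = ∑ _c ∈ Ω, (1 : F) := by
    rw [← Finset.sum_erase_add Ω (fun c => if c = w then (0 : F) else 1) hwΩ,
      ← Finset.sum_erase_add Ω (fun _ => (1 : F)) hwΩ, if_pos rfl, add_zero]
    congr 1
    exact Finset.sum_congr rfl fun c hc => if_neg (Finset.ne_of_mem_erase hc)
  rw [hpar] at hsum
  linear_combination hsum - h2

end Square

end CfsgLib.FixedCharEven
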