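import Cfsg.Agent.Blocks.GroupAlgebra
import Cfsg.Agent.Blocks.Height
import Cfsg.Agent.Blocks.PPart
import Cfsg.Agent.GaloisConj.Basic

/-!
# The power map inverting odd parts and fixing 2-parts

`IsTwist k G`: `g ^ k = g` on 2-elements and `g⁻¹` on elements of odd order.  The induced map on
irreducible characters, on classes and on the centre of the group algebra.
-/

set_option autoImplicit false
set_option linter.unusedSectionVars false
set_option linter.style.haveILetI false

namespace CfsgLib.FixedCharEven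

open CfsgLib.Blocks

universe u

/-- `k` fixes 2-elements and inverts elements of odd order. -/
structure IsTwist (k : ℕ) (G : Type*) [Group G] : Prop where
  two : ∀ g : G, (∃ j : ℕ, orderOf g = 2 ^ j) → g ^ k = g
  odd : ∀ g : G, Odd (orderOf g) → g ^ k = g⁻¹

variable {G : Type u} [Group G] [Finite G] {k : ℕ}

theorem not_two_dvd_of_odd {n : ℕ} (h : Odd n) : ¬ 2 ∣ n :=
  fun h' => (Nat.not_even_iff_odd.2 h) (even_iff_two_dvd.2 h')

theorem eq_one_of_two_power_of_odd {g : G} (h : ∃ j : ℕ, orderOf g = 2 ^ j)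
    (h' : Odd (orderOf g)) : g = 1 := by
  obtain ⟨j, hj⟩ := h
  rcases j with - | j
  · exact orderOf_eq_one_iff.1 (by simpa using hj)
  · exact absurd (hj ▸ dvd_pow_self 2 j.succ_ne_zero) (not_two_dvd_of_odd h')

/-- The decomposition into a 2-part and an odd part, both powers of the element. -/
theorem exists_decomp (g : G) : ∃ u t : G, u * t = g ∧ Commute u t ∧
    (∃ j : ℕ, orderOf u = 2 ^ j) ∧ Odd (orderOf t) ∧ u ∈ Subgroup.zpowers g ∧
    t ∈ Subgroup.zpowers g := by
  obtain ⟨u, hu⟩ := exists_isPPart Nat.prime_two g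
  have hug := isPPart_mem_zpowers Nat.prime_two hu
  obtain ⟨t, hut, hc, hu2, ht⟩ := hu
  refine ⟨u, t, hut, hc, hu2, Nat.not_even_iff_odd.1 fun h => ht (even_iff_two_dvd.1 h), hug, ?_⟩
  rw [show t = u⁻¹ * g by rw [← hut, inv_mul_cancel_left]]
  exact mul_mem (inv_mem hug) (Subgroup.mem_zpowers g)

theorem IsTwist.pow_mul (h : IsTwist k G) {u t : G} (hc : Commute u t)
    (hu : ∃ j : ℕ, orderOf u = 2 ^ j) (ht : Odd (orderOf t)) : (u * t) ^ k = u * t⁻¹ := by
  rw [hc.mul_pow, h.two u hu, h.odd t ht]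

theorem IsTwist.sq (h : IsTwist k G) (g : G) : (g ^ k) ^ k = g := by
  obtain ⟨u, t, rfl, hc, hu, ht, -⟩ := exists_decomp g
  rw [h.pow_mul hc hu ht, h.pow_mul hc.inv_right hu (by rwa [orderOf_inv]), inv_inv]

theorem IsTwist.involutive (h : IsTwist k G) : Function.Involutive (fun g : G => g ^ k) := h.sq

theorem IsTwist.orderOf_pow (h : IsTwist k G) (g : G) : orderOf (g ^ k) = orderOf g :=
  Nat.dvd_antisymm (orderOf_pow_dvd k) (by
    conv_lhs => rw [← h.sq g]
    exact orderOf_pow_dvd k)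

theorem IsTwist.coprime (h : IsTwist k G) : k.Coprime (Nat.card G) := by
  refine Nat.coprime_of_dvd fun p hp hpk hpG => ?_
  haveI : Fact p.Prime := ⟨hp⟩
  obtain ⟨g, hg⟩ := exists_prime_orderOf_dvd_card' p hpG
  have h1 : g ^ k = 1 := orderOf_dvd_iff_pow_eq_one.1 (hg ▸ hpk)
  have h2 := h.sq g
  rw [h1, one_pow] at h2
  exact hp.ne_one (by rw [← hg, ← h2, orderOf_one])

theorem IsTwist.centralizer_eq (h : IsTwist k G) (g : G) :
    Subgroup.centralizer ({g ^ k} : Set G) = Subgroup.centralizer ({g} : Set G) := by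
  ext x
  simp only [Subgroup.mem_centralizer_singleton_iff]
  refine ⟨fun hx => ?_, fun hx => (Commute.pow_right (show Commute x g from hx) k).eq⟩
  rw [← h.sq g]
  exact (Commute.pow_right (show Commute x (g ^ k) from hx) k).eq

theorem IsTwist.subgroup (h : IsTwist k G) (H : Subgroup G) : IsTwist k H where
  two g hg := Subtype.ext (by simpa using h.two (g : G) (by simpa using hg))
  odd g hg := Subtype.ext (by simpa using h.odd (g : G) (by simpa using hg))

theorem IsTwist.quotient (h : IsTwist k G) (N : Subgroup G) [N.Normal] : IsTwist k (G ⧸ N) := by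
  constructor
  · intro q hq
    obtain ⟨g, rfl⟩ := QuotientGroup.mk_surjective q
    obtain ⟨u, t, hut, hc, hu, ht, -, htg⟩ := exists_decomp g
    have ht1 : (t : G ⧸ N) = 1 := by
      refine eq_one_of_two_power_of_odd ?_
        (ht.of_dvd_nat (orderOf_map_dvd (QuotientGroup.mk' N) t))
      obtain ⟨j, hj⟩ := hq
      obtain ⟨i, rfl⟩ := htg
      obtain ⟨l, -, hl⟩ := (Nat.dvd_prime_pow Nat.prime_two).1
        (show orderOf ((g : G ⧸ N) ^ i) ∣ 2 ^ j from hj ▸ orderOf_dvd_of_mem_zpowers (Subgroup.zpow_mem_zpowers _ i))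
      exact ⟨l, by rw [← hl]; rfl⟩
    rw [← hut, QuotientGroup.mk_mul, ht1, mul_one, ← QuotientGroup.mk_pow, h.two u hu]
  · intro q hq
    obtain ⟨g, rfl⟩ := QuotientGroup.mk_surjective q
    obtain ⟨u, t, hut, hc, hu, ht, hug, -⟩ := exists_decomp g
    have hu1 : (u : G ⧸ N) = 1 := by
      refine eq_one_of_two_power_of_odd ?_ ?_
      · obtain ⟨j, hj⟩ := hu
        obtain ⟨i, -, hi⟩ := (Nat.dvd_prime_pow Nat.prime_two).1
          (show orderOf (u : G ⧸ N) ∣ 2 ^ j from hj ▸ orderOf_map_dvd (QuotientGroup.mk' N) u)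
        exact ⟨i, hi⟩
      · obtain ⟨i, rfl⟩ := hug
        exact hq.of_dvd_nat (show orderOf ((g : G ⧸ N) ^ i) ∣ orderOf (g : G ⧸ N) from
          orderOf_dvd_of_mem_zpowers (Subgroup.zpow_mem_zpowers _ i))
    rw [← hut, QuotientGroup.mk_mul, hu1, one_mul, ← QuotientGroup.mk_pow, h.odd t ht,
      QuotientGroup.mk_inv]

/-! ### Characters, classes and the centre -/

theorem charDegree_eq (χ : Cfsg.IrrCharacter G) :
    (Cfsg.charDegree (χ : G → ℂ) : ℂ) = (χ : G → ℂ) 1 := by
  haveI := Fintype.ofFinite G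
  exact charDegree_cast χ

/-- The character `g ↦ χ (g ^ k)`. -/
noncomputable def twistChar (h : IsTwist k G) (χ : Cfsg.IrrCharacter G) : Cfsg.IrrCharacter G :=
  ⟨fun g => (χ : G → ℂ) (g ^ k), GaloisConj.isIrrCharacter_pow χ.2 h.coprime⟩

theorem twistChar_apply (h : IsTwist k G) (χ : Cfsg.IrrCharacter G) (g : G) :
    (twistChar h χ : G → ℂ) g = (χ : G → ℂ) (g ^ k) := rfl

theorem twistChar_involutive (h : IsTwist k G) : Function.Involutive (twistChar h) :=
  fun χ => Subtype.ext (funext fun g => by simp [twistChar_apply, h.sq])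

theorem twistChar_eq_iff (h : IsTwist k G) (χ : Cfsg.IrrCharacter G) :
    twistChar h χ = χ ↔ ∀ g : G, (χ : G → ℂ) (g ^ k) = (χ : G → ℂ) g :=
  ⟨fun e g => congrFun (congrArg Subtype.val e) g, fun e => Subtype.ext (funext e)⟩

theorem isConj_pow {a b : G} (h : IsConj a b) (n : ℕ) : IsConj (a ^ n) (b ^ n) := by
  obtain ⟨c, rfl⟩ := isConj_iff.1 h
  exact isConj_iff.2 ⟨c, (conj_pow).symm⟩

/-- The class of the powers. -/
noncomputable def twistClass (k : ℕ) (C : ConjClasses G) : ConjClasses G :=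
  ConjClasses.mk ((Quotient.out C : G) ^ k)

theorem twistClass_mk (k : ℕ) (g : G) :
    twistClass k (ConjClasses.mk g) = ConjClasses.mk (g ^ k) :=
  ConjClasses.mk_eq_mk_iff_isConj.2
    (isConj_pow (ConjClasses.mk_eq_mk_iff_isConj.1 (Quotient.out_eq _)) k)

theorem twistClass_involutive (h : IsTwist k G) : Function.Involutive (twistClass (G := G) k) := by
  intro C
  obtain ⟨g, rfl⟩ := ConjClasses.mk_surjective C
  rw [twistClass_mk, twistClass_mk, h.sq]

theorem twistClass_fixed_iff (k : ℕ) (g : G) :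
    twistClass k (ConjClasses.mk g) = ConjClasses.mk g ↔ IsConj (g ^ k) g := by
  rw [twistClass_mk, ConjClasses.mk_eq_mk_iff_isConj]

variable {R : Type*} [CommRing R]

/-- The central element with coefficients `g ↦ z (g ^ k)`. -/
noncomputable def twistCtr (k : ℕ) (z : Ctr R G) : Ctr R G :=
  ⟨ofFun fun g => (z : MonoidAlgebra R G).coeff (g ^ k), mem_ctr_iff.2 fun g x => by
    simp only [coeff_ofFun, conj_pow, coeff_conj_of_mem_ctr z.2]⟩

theorem coeff_twistCtr (k : ℕ) (z : Ctr R G) (g : G) :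
    (twistCtr k z : MonoidAlgebra R G).coeff g = (z : MonoidAlgebra R G).coeff (g ^ k) := by
  simp [twistCtr]

theorem classCoeff_twistCtr (k : ℕ) (z : Ctr R G) (C : ConjClasses G) :
    classCoeff (twistCtr k z) C = classCoeff z (twistClass k C) := by
  obtain ⟨g, rfl⟩ := ConjClasses.mk_surjective C
  rw [twistClass_mk, classCoeff_mk, classCoeff_mk, coeff_twistCtr]

theorem twistCtr_twistCtr (h : IsTwist k G) (z : Ctr R G) : twistCtr k (twistCtr k z) = z :=
  ctr_ext fun g => by rw [coeff_twistCtr, coeff_twistCtr, h.sq]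

theorem twistCtr_classSum (h : IsTwist k G) (C : ConjClasses G) :
    twistCtr k (classSum R C) = classSum R (twistClass k C) := by
  classical
  refine ctr_ext fun g => ?_
  rw [coeff_twistCtr, coeff_classSum, coeff_classSum, ← twistClass_mk]
  exact if_congr ⟨fun e => by rw [← e, twistClass_involutive h],
    fun e => by rw [e, twistClass_involutive h]⟩ rfl rfl

theorem twistCtr_mapCtr {S : Type*} [CommRing S] (f : R →+* S) (z : Ctr R G) :
    twistCtr k (mapCtr f z) = mapCtr f (twistCtr k z) :=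
  ctr_ext fun g => by simp [coeff_twistCtr]

theorem omega_twistCtr [Fintype G] (h : IsTwist k G) (χ : Cfsg.IrrCharacter G) (z : Ctr ℂ G) :
    omega χ (twistCtr k z) = omega (twistChar h χ) z := by
  rw [omega_apply, omega_apply, twistChar_apply, one_pow]
  congr 1
  refine Fintype.sum_equiv (h.involutive.toPerm _) _ _ fun g => ?_
  show _ = _ * (χ : G → ℂ) ((g ^ k) ^ k)
  rw [coeff_twistCtr, h.sq]
  rfl

theorem twistCtr_mul_complex (h : IsTwist k G) (a b : Ctr ℂ G) :
    twistCtr k (a * b) = twistCtr k a * twistCtr k b := by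
  haveI := Fintype.ofFinite G
  exact ctr_ext_omega fun χ => by
    rw [omega_twistCtr h, map_mul, map_mul, omega_twistCtr h, omega_twistCtr h]

theorem twistCtr_mul_int (h : IsTwist k G) (a b : Ctr Cfsg.AlgInt G) :
    twistCtr k (a * b) = twistCtr k a * twistCtr k b := by
  refine mapCtr_injective (Subalgebra.val Cfsg.AlgInt).toRingHom Subtype.val_injective ?_
  rw [map_mul, ← twistCtr_mapCtr, ← twistCtr_mapCtr, ← twistCtr_mapCtr, map_mul,
    twistCtr_mul_complex h]

/-- The twist is multiplicative over every quotient ring of the algebraic integers. -/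
theorem twistCtr_mul (h : IsTwist k G) (f : Cfsg.AlgInt →+* R) (hf : Function.Surjective f)
    (a b : Ctr R G) : twistCtr k (a * b) = twistCtr k a * twistCtr k b := by
  obtain ⟨a, rfl⟩ := mapCtr_surjective f hf a
  obtain ⟨b, rfl⟩ := mapCtr_surjective f hf b
  rw [← map_mul, twistCtr_mapCtr, twistCtr_mul_int h, map_mul, twistCtr_mapCtr, twistCtr_mapCtr]

end CfsgLib.FixedCharEven
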